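import Groth.Agent.Crv77.Const
import Groth.Agent.Crv77.Sections
import Groth.Agent.Serre71.Finite
import Groth.Agent.Crv77.RR
import Groth.Agent.FEt83.ClopenSections

/-! Global functions and connectedness. -/

set_option autoImplicit false
set_option backward.isDefEq.respectTransparency.types false
set_option linter.style.haveILetI false
universe u

open CategoryTheory CategoryTheory.Limits AlgebraicGeometry TopologicalSpace

noncomputable section

namespace Groth.Agent.Surf15

variable (k : Type u) [Field k] (X : Scheme.{u}) [X.Over (Spec (CommRingCat.of k))]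

/-- The structure algebra of global functions. -/
abbrev topAlg : Algebra k Γ(X, ⊤) :=
  RingHom.toAlgebra (Coh.toGlobal (X ↘ Spec (CommRingCat.of k)) : k →+* Γ(X, ⊤))

/-- Classes in degree zero are global functions. -/
def secUnitEquiv :
    letI := topAlg k X
    Coh.HH X (Coh.structureModule X) 0 ≃ₗ[k] Γ(X, ⊤) :=
  letI := topAlg k X
  { (Crv77.sec (Coh.structureModule X)) with
    map_smul' := fun a x => Crv77.sec_smul k (Coh.structureModule X) a x }

theorem connectedSpace_of_finrank_le_one [Nonempty X] [IsProper (X ↘ Spec (CommRingCat.of k))]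
    (h : Module.finrank k (Coh.HH X (Coh.structureModule X) 0) ≤ 1) : ConnectedSpace X := by
  haveI := Crv77.isNoetherian_of_proper k X
  letI := topAlg k X
  haveI : Module.Finite k (Coh.HH X (Coh.structureModule X) 0) :=
    Serre71.finite_hh_of_isProper k _ Crv77.isCoh_structureModule 0
  haveI : Module.Finite k Γ(X, ⊤) := Module.Finite.equiv (secUnitEquiv k X)
  rw [(secUnitEquiv k X).finrank_eq] at h
  haveI : Nonempty (⊤ : X.Opens) := ‹Nonempty X›.map fun x => ⟨x, trivial⟩
  haveI : Nontrivial Γ(X, ⊤) := Scheme.component_nontrivial X ⊤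
  haveI : PreconnectedSpace X := preconnectedSpace_iff_clopen.2 fun C hC => by
    obtain ⟨e, he, hC'⟩ := FEt83.exists_idempotent_of_isClopen C hC
    obtain ⟨v, hv⟩ := finrank_le_one_iff.1 h
    obtain ⟨c₁, hc₁⟩ := hv 1
    obtain ⟨c, hc⟩ := hv e
    have hc1 : c₁ ≠ 0 := fun h0 => one_ne_zero (α := Γ(X, ⊤)) (by rw [← hc₁, h0, zero_smul])
    have hec : e = algebraMap k Γ(X, ⊤) (c / c₁) := by
      rw [Algebra.algebraMap_eq_smul_one, ← hc₁, smul_smul, div_mul_cancel₀ c hc1, hc]
    have hid : IsIdempotentElem (c / c₁) := (algebraMap k Γ(X, ⊤)).injective <| by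
      rw [map_mul, ← hec]; exact he
    rcases IsIdempotentElem.iff_eq_zero_or_one.1 hid with h0 | h0
    · left; rw [← hC', hec, h0, map_zero, Scheme.basicOpen_zero]; rfl
    · right; rw [← hC', hec, h0, map_one, Scheme.basicOpen_of_isUnit _ isUnit_one]; rfl
  exact ⟨inferInstance⟩

theorem finrank_h0_eq_one_of_connected [IsAlgClosed k] [IsProper (X ↘ Spec (CommRingCat.of k))]
    [IsReduced X] [ConnectedSpace X] :
    Module.finrank k (Coh.HH X (Coh.structureModule X) 0) = 1 := by
  haveI := Crv77.isNoetherian_of_proper k X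
  letI := topAlg k X
  haveI : Module.Finite k (Coh.HH X (Coh.structureModule X) 0) :=
    Serre71.finite_hh_of_isProper k _ Crv77.isCoh_structureModule 0
  haveI : Module.Finite k Γ(X, ⊤) := Module.Finite.equiv (secUnitEquiv k X)
  haveI : Nonempty (⊤ : X.Opens) := (inferInstance : Nonempty X).map fun x => ⟨x, trivial⟩
  haveI : Nontrivial Γ(X, ⊤) := Scheme.component_nontrivial X ⊤
  have hF : IsField Γ(X, ⊤) := ⟨exists_pair_ne _, mul_comm, fun {a} ha => by
    obtain ⟨z, -, hz⟩ := Crv77.exists_mul_eq_one_of_isIntegral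
      (fun e he => Crv77.eq_zero_or_one_of_isIdempotentElem he) (k := k) (c := a)
      (Algebra.IsIntegral.isIntegral a) ha
    exact ⟨z, hz⟩⟩
  let := hF.toField
  have hb : Function.Bijective (algebraMap k Γ(X, ⊤)) :=
    ⟨(algebraMap k Γ(X, ⊤)).injective, IsAlgClosed.algebraMap_bijective_of_isIntegral.2⟩
  rw [(secUnitEquiv k X).finrank_eq,
    ← (LinearEquiv.ofBijective (Algebra.linearMap k Γ(X, ⊤)) hb).finrank_eq, Module.finrank_self]

end Groth.Agent.Surf15

namespace Groth.Agent.Surf15

theorem surjective_of_finrank_one {k U V : Type*} [Field k] [AddCommGroup U] [Module k U] [AddCommGroup V]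
    [Module k V] (f : U →ₗ[k] V) (h : Module.finrank k V = 1) (hf : f ≠ 0) : Function.Surjective f := by
  obtain ⟨u, hu⟩ : ∃ u, f u ≠ 0 := by
    by_contra hall
    push Not at hall
    exact hf (LinearMap.ext hall)
  intro v
  obtain ⟨c, hc⟩ := (finrank_eq_one_iff_of_nonzero' (f u) hu).1 h v
  exact ⟨c • u, by rw [map_smul, hc]⟩

theorem toSubscheme_h0_ne_zero (k : Type u) [Field k] {X : Scheme.{u}} [X.Over (Spec (CommRingCat.of k))]
    (D : X.IdealSheafData) [Nonempty D.subscheme]
    (h : Crv77.hmap k (ClSub.toSubscheme D) 0 = 0) : False := by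
  have h1 := Crv77.sec_hmap k (ClSub.toSubscheme D) ((Crv77.sec (Coh.structureModule X)).symm (1 : Γ(X, ⊤)))
  rw [h, LinearMap.zero_apply, map_zero, AddEquiv.apply_symm_apply] at h1
  haveI : Nonempty (⊤ : D.subscheme.Opens) := (inferInstance : Nonempty D.subscheme).map fun x => ⟨x, trivial⟩
  haveI : Nontrivial Γ(D.subscheme, ⊤) := Scheme.component_nontrivial D.subscheme ⊤
  refine one_ne_zero (α := Γ(D.subscheme, ⊤)) ?_
  exact ((map_one (D.subschemeι.appTop).hom).symm.trans h1.symm)

end Groth.Agent.Surf15
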