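import Groth.Agent.Surf15.H1

/-! Euler characteristic of the structure sheaf of an effective divisor. -/

set_option autoImplicit false
set_option backward.isDefEq.respectTransparency.types false
set_option linter.style.haveILetI false
universe u

open CategoryTheory CategoryTheory.Limits AlgebraicGeometry TopologicalSpace

noncomputable section

namespace Groth.Agent.Surf15

variable {k : Type u} [Field k] {X : Scheme.{u}} [X.Over (Spec (CommRingCat.of k))]
  [IsProper (X ↘ (Spec (CommRingCat.of k)))] [IsIntegral X]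

/-- `χ(O_Z) = h⁰ - h¹` and `h⁰ ≥ 1`. -/
theorem euler_quot_effCartier (hdim : topologicalKrullDim X = 2) {Z : X.IdealSheafData}
    (hZ : BlowUp.IsEffCartierIdeal Z) (hne : Z ≠ ⊤) :
    Curv2.euler k X (ClSub.quotMod Z) = (Module.finrank k (Coh.HH X (ClSub.quotMod Z) 0) : ℤ) -
      Module.finrank k (Coh.HH X (ClSub.quotMod Z) 1) ∧
    1 ≤ Module.finrank k (Coh.HH X (ClSub.quotMod Z) 0) := by
  haveI := Crv77.isNoetherian_of_proper k X
  letI := subOver (k := k) Z
  haveI : IsProper (Z.subscheme ↘ (Spec (CommRingCat.of k))) :=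
    inferInstanceAs (IsProper (Z.subschemeι ≫ (X ↘ (Spec (CommRingCat.of k)))))
  haveI : IsLocallyNoetherian Z.subscheme := LocallyOfFiniteType.isLocallyNoetherian Z.subschemeι
  have hd : topologicalKrullDim Z.subscheme ≤ 1 := by
    rw [IsHomeomorph.topologicalKrullDim_eq _
      Z.subschemeι.isClosedEmbedding.isEmbedding.toHomeomorph.isHomeomorph, Z.range_subschemeι,
      dim_support_effCartier (k := k) hdim hZ hne]
  have hcc := Crv77.curveCoh_of_finite k Z.subscheme hd fun M hM n => Serre71.finite_hh_of_isProper k M hM n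
  have he := fun i => (nonempty_hh_unit (k := k) Z i).some
  refine ⟨?_, ?_⟩
  · have h := Curves2.Ample.euler_push k Z.subschemeι (rfl : _ = Z.subscheme ↘ (Spec (CommRingCat.of k)))
      _ Crv77.isCoh_structureModule
    change Curv2.euler k X (ClSub.quotMod Z) = _ at h
    rw [h, hcc.euler_eq Crv77.isCoh_structureModule, (he 0).finrank_eq, (he 1).finrank_eq]
  · obtain ⟨x, hx⟩ := support_nonempty hne
    rw [← Z.range_subschemeι] at hx
    obtain ⟨z, -⟩ := hx
    haveI : Nonempty (⊤ : Z.subscheme.Opens) := ⟨⟨z, trivial⟩⟩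
    haveI : Nontrivial Γ(Z.subscheme, ⊤) := Scheme.component_nontrivial Z.subscheme ⊤
    haveI : Nontrivial Γ(Coh.structureModule Z.subscheme, ⊤) := ‹Nontrivial Γ(Z.subscheme, ⊤)›
    haveI : Nontrivial (Coh.HH X (ClSub.quotMod Z) 0) :=
      haveI : Nontrivial (Coh.HH Z.subscheme (Coh.structureModule Z.subscheme) 0) :=
        (Crv77.sec (Coh.structureModule Z.subscheme)).toEquiv.nontrivial
      (he 0).toEquiv.nontrivial
    haveI : Module.Finite k (Coh.HH X (ClSub.quotMod Z) 0) :=
      Serre71.finite_hh_of_isProper k _ (Crv77.isCoh_quotMod Z) 0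
    exact Module.finrank_pos

end Groth.Agent.Surf15

namespace Groth.Agent.Surf15

/-- `χ = h⁰` for twists of an effective divisor without `H¹`. -/
theorem euler_twist_quot_eq {k : Type u} [Field k] {X : Scheme.{u}} [X.Over (Spec (CommRingCat.of k))]
    [IsProper (X ↘ (Spec (CommRingCat.of k)))] [IsIntegral X] (hdim : topologicalKrullDim X = 2)
    {Z : X.IdealSheafData} (hZ : BlowUp.IsEffCartierIdeal Z) (hne : Z ≠ ⊤) {L : X.Modules}
    (hL : PicF.IsInvertible L) (h1 : Subsingleton (Coh.HH X (CohB1.tensorMod (ClSub.quotMod Z) L) 1)) :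
    Curv2.euler k X (CohB1.tensorMod (ClSub.quotMod Z) L) =
      (Module.finrank k (Coh.HH X (CohB1.tensorMod (ClSub.quotMod Z) L) 0) : ℤ) := by
  haveI := Crv77.isNoetherian_of_proper k X
  letI := subOver (k := k) Z
  haveI : IsProper (Z.subscheme ↘ (Spec (CommRingCat.of k))) :=
    inferInstanceAs (IsProper (Z.subschemeι ≫ (X ↘ (Spec (CommRingCat.of k)))))
  haveI : IsLocallyNoetherian Z.subscheme := LocallyOfFiniteType.isLocallyNoetherian Z.subschemeι
  have hd : topologicalKrullDim Z.subscheme ≤ 1 := by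
    rw [IsHomeomorph.topologicalKrullDim_eq _
      Z.subschemeι.isClosedEmbedding.isEmbedding.toHomeomorph.isHomeomorph, Z.range_subschemeι,
      dim_support_effCartier (k := k) hdim hZ hne]
  have hcc := Crv77.curveCoh_of_finite k Z.subscheme hd fun M hM n => Serre71.finite_hh_of_isProper k M hM n
  have hP := Crv77.isCoh_of_isInvertible (Amp73.isInvertible_pullback Z.subschemeι hL)
  obtain ⟨e0⟩ := nonempty_hh (k := k) Z hL 0
  obtain ⟨e1⟩ := nonempty_hh (k := k) Z hL 1
  obtain ⟨e⟩ := Curves2.Ample.nonempty_push_unit_tensor Z.subschemeι hL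
  have h := (Crv77.euler_congr (k := k) e).trans
    (Curves2.Ample.euler_push k Z.subschemeι (rfl : _ = Z.subscheme ↘ (Spec (CommRingCat.of k))) _ hP)
  change Curv2.euler k X (CohB1.tensorMod (ClSub.quotMod Z) L) = _ at h
  haveI := e1.toEquiv.subsingleton_congr.1 h1
  rw [h, hcc.euler_eq hP, e0.finrank_eq]
  simp only [Crv77.h]
  rw [Module.finrank_zero_of_subsingleton (M := Coh.HH Z.subscheme _ 1)]
  simp

end Groth.Agent.Surf15
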