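import Mathlib.Algebra.BigOperators.Fin
import Mathlib.Algebra.Order.BigOperators.Group.Finset
import Mathlib.Tactic.Ring
import Mathlib.Tactic.Linarith

/-! Linear algebra of negative definite forms with nonnegative off-diagonal entries. -/

set_option autoImplicit false

namespace Groth.Agent.Surf15

/-- If the products of `s` with the negative coordinates are nonpositive and the form is negative
definite on nonpositive vectors, then `s` is nonnegative. -/
theorem coeff_nonneg {r : ℕ} (G : Fin r → Fin r → ℤ) (hoff : ∀ i j, i ≠ j → 0 ≤ G i j) (s : Fin r → ℤ)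
    (hneg : ∀ t : Fin r → ℤ, (∀ i, t i ≤ 0) → t ≠ 0 → ∑ i, ∑ j, t i * t j * G i j < 0)
    (h : ∀ j, s j < 0 → ∑ i, s i * G i j ≤ 0) : ∀ i, 0 ≤ s i := by
  intro i0
  by_contra hlt
  let t : Fin r → ℤ := fun i => min (s i) 0
  have ht : t ≠ 0 := fun he => hlt (by
    have : min (s i0) 0 = 0 := congrFun he i0
    exact min_eq_right_iff.1 this)
  have key : ∀ j, 0 ≤ ∑ i, t i * t j * G i j := by
    intro j
    by_cases hj : s j < 0
    · have htj : t j = s j := min_eq_left hj.le
      have h1 : 0 ≤ s j * ∑ i, s i * G i j := mul_nonneg_of_nonpos_of_nonpos hj.le (h j hj)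
      refine h1.trans ?_
      rw [Finset.mul_sum]
      refine Finset.sum_le_sum fun i _ => ?_
      by_cases hi : s i < 0
      · have hti : t i = s i := min_eq_left hi.le
        rw [hti, htj]
        exact le_of_eq (by ring)
      · have hne : i ≠ j := fun he => hi (he ▸ hj)
        have hti : t i = 0 := min_eq_right (not_lt.1 hi)
        rw [hti, zero_mul, zero_mul, ← mul_assoc]
        exact mul_nonpos_of_nonpos_of_nonneg
          (mul_nonpos_of_nonpos_of_nonneg hj.le (not_lt.1 hi)) (hoff i j hne)
    · have htj : t j = 0 := min_eq_right (not_lt.1 hj)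
      exact (Finset.sum_eq_zero fun i _ => by rw [htj, mul_zero, zero_mul]).ge
  have h2 := hneg t (fun i => min_le_right _ _) ht
  rw [Finset.sum_comm] at h2
  exact absurd h2 (not_lt.2 (Finset.sum_nonneg fun j _ => key j))

end Groth.Agent.Surf15
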