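import Groth.Agent.Surf15.Basic
import Groth.Agent.FGA29.IntNumPos

/-! Effective divisors on surfaces have dimension one and positive degree for ample modules. -/

set_option autoImplicit false
set_option backward.isDefEq.respectTransparency.types false
set_option linter.style.haveILetI false
universe u

open CategoryTheory CategoryTheory.Limits AlgebraicGeometry TopologicalSpace

noncomputable section

namespace Groth.Agent.Surf15

variable {k : Type u} [Field k] {X : Scheme.{u}} [X.Over (Spec (CommRingCat.of k))]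
  [IsProper (X ↘ (Spec (CommRingCat.of k)))]

omit [X.Over (Spec (CommRingCat.of k))] [IsProper (X ↘ (Spec (CommRingCat.of k)))] in
theorem exists_max_point {S : Set X} (hS : IsClosed S) {x : X} (hx : x ∈ S) :
    ∃ z ∈ S, (∀ y ∈ S, y ⤳ z → y = z) ∧ z ⤳ x := by
  obtain ⟨T, hT, hxT⟩ : ∃ T ∈ irreducibleComponents S, (⟨x, hx⟩ : S) ∈ T :=
    ⟨irreducibleComponent (⟨x, hx⟩ : S), irreducibleComponent_mem_irreducibleComponents _,
      mem_irreducibleComponent⟩
  haveI : QuasiSober S := hS.isClosedEmbedding_subtypeVal.quasiSober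
  obtain ⟨η, hη⟩ : ∃ η, IsGenericPoint η T :=
    QuasiSober.sober hT.1 (isClosed_of_mem_irreducibleComponents T hT)
  refine ⟨η.1, η.2, fun y hy hyz => ?_, (hη.specializes hxT).map continuous_subtype_val⟩
  have h1 : (⟨y, hy⟩ : S) ⤳ η := Topology.IsInducing.subtypeVal.specializes_iff.1 hyz
  have hsub : T ⊆ closure {(⟨y, hy⟩ : S)} := by
    rw [← hη.def]
    exact h1.closure_subset
  have h2 : η ⤳ ⟨y, hy⟩ := hη.specializes (hT.2 isIrreducible_singleton.closure hsub (subset_closure rfl))
  exact ((h1.antisymm h2).eq ▸ rfl)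

omit [X.Over (Spec (CommRingCat.of k))] [IsProper (X ↘ (Spec (CommRingCat.of k)))] in
theorem support_quotMod (Z : X.IdealSheafData) :
    CohB1.support (ClSub.quotMod Z) = (Z.support : Set X) := by
  refine (Snapper75.support_quotMod_subset Z).antisymm fun x hx => ?_
  rw [← Z.range_subschemeι] at hx
  obtain ⟨z, rfl⟩ := hx
  have : Nontrivial ((Coh.structureModule Z.subscheme).presheaf.stalk z) :=
    QC70.nontrivial_stalk_unit _
  exact not_subsingleton_iff_nontrivial.2
    (QC70.nontrivial_stalk_pushforward Z.subschemeι (Coh.structureModule Z.subscheme) z)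

omit [X.Over (Spec (CommRingCat.of k))] [IsProper (X ↘ (Spec (CommRingCat.of k)))] in
theorem support_nonempty {F : X.IdealSheafData} (hne : F ≠ ⊤) : (F.support : Set X).Nonempty := by
  by_contra h
  refine hne ((Scheme.IdealSheafData.support_eq_bot_iff F).1 (SetLike.coe_injective ?_))
  rw [Set.not_nonempty_iff_eq_empty.1 h]
  simp

variable [IsIntegral X]

include k in
/-- A nonzero effective divisor on a surface has dimension one. -/
theorem dim_support_effCartier (hdim : topologicalKrullDim X = 2) {F : X.IdealSheafData}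
    (hF : BlowUp.IsEffCartierIdeal F) (hne : F ≠ ⊤) : topologicalKrullDim (F.support : Set X) = 1 := by
  haveI := Crv77.isNoetherian_of_proper k X
  let f := X ↘ (Spec (CommRingCat.of k))
  have hX := Cyc90.isSetup_of_field f _ (FGA29.deltaCompat_tdegN (X := X) k)
  have key : ∀ x ∈ (F.support : Set X), ∃ z ∈ (F.support : Set X), z ⤳ x ∧ WC97.tdegN f z = 1 := by
    intro x hx
    obtain ⟨z, hz, hmax, hzx⟩ := exists_max_point F.support.isClosed hx
    refine ⟨z, hz, hzx, ?_⟩
    have h1 := Div89.dim_stalk_eq_one_of_effCartier hF hz hmax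
    have h2 := dim_stalk_add (k := k) hdim z
    rw [h1] at h2
    exact tdeg_eq_one_of_add h2
  refine le_antisymm (Var76.FibreBound.dim_le_of_forall f F.support.isClosed fun x hx => ?_) ?_
  · obtain ⟨z, -, hzx, hz1⟩ := key x hx
    have h : (WC97.tdegN f x : ℤ) ≤ WC97.tdegN f z := Cyc90.delta_le hX.2.2 hzx
    rw [hz1] at h
    have h' : WC97.tdegN f x ≤ 1 := by exact_mod_cast h
    exact_mod_cast h'
  · obtain ⟨x, hx⟩ := support_nonempty hne
    obtain ⟨z, hz, -, hz1⟩ := key x hx
    have h := WC97.topologicalKrullDim_closure f z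
    rw [hz1] at h
    refine le_trans (le_of_eq ?_) (TopDim50.dim_mono
      (F.support.isClosed.closure_subset_iff.2 (Set.singleton_subset_iff.2 hz)))
    rw [h]
    rfl

omit [IsIntegral X] in
/-- Closed subschemes of dimension one have positive degree for ample modules. -/
theorem euler_sub_pos {Z : X.IdealSheafData} (hZ : topologicalKrullDim (Z.support : Set X) = 1)
    {H M : X.Modules} (hH : CohB1.IsAmple H)
    (hM : Nonempty (CohB1.tensorMod M H ≅ Coh.structureModule X)) :
    0 < Curv2.euler k X (ClSub.quotMod Z) - Curv2.euler k X (CohB1.tensorMod (ClSub.quotMod Z) M) := by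
  haveI := Crv77.isNoetherian_of_proper k X
  let f := X ↘ (Spec (CommRingCat.of k))
  have hδ := FGA29.deltaCompat_tdegN (X := X) k
  have hX := Cyc90.isSetup_of_field f _ hδ
  have hF := Crv77.isCoh_quotMod Z
  have hr : topologicalKrullDim (CohB1.support (ClSub.quotMod Z)) ≤ ((1 : ℕ) : WithBot ℕ∞) := by
    rw [support_quotMod, hZ]; rfl
  have hle := FGA29.cohLe_of_dim_le k hδ hX hF hr
  rw [← FGA29.intE_one k M (ClSub.quotMod Z)]
  refine FGA29.intE_pos_of_ample hX k hδ (fun _ : Fin 1 => H) _ (fun _ => hH) (fun _ => hM) hle ?_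
  by_contra hcon
  push Not at hcon
  have h0 : topologicalKrullDim (Z.support : Set X) ≤ ((0 : ℕ) : WithBot ℕ∞) :=
    Var76.FibreBound.dim_le_of_forall f Z.support.isClosed fun x hx => by
      rw [← support_quotMod] at hx
      have h1 := hle.2 x (not_subsingleton_iff_nontrivial.1 hx)
      have h2 : WC97.tdegN f x ≠ 1 := fun h =>
        hx (hcon x (by exact_mod_cast h))
      have h3 : WC97.tdegN f x ≤ 1 := by dsimp only at h1; exact_mod_cast h1
      exact_mod_cast (show WC97.tdegN f x ≤ 0 by omega)
  rw [hZ] at h0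
  exact absurd h0 (by norm_num)

/-- The degree of an effective divisor with respect to an inverse of an ample module is positive. -/
theorem inter_pos (hdim : topologicalKrullDim X = 2) {F : X.IdealSheafData}
    (hF : BlowUp.IsEffCartierIdeal F) (hne : F ≠ ⊤) {H M : X.Modules} (hH : CohB1.IsAmple H)
    (hM : Nonempty (CohB1.tensorMod M H ≅ Coh.structureModule X)) :
    0 < inter k (ClSub.idealMod F) M := by
  rw [inter_idealMod_eq hdim hF (hM.elim Inv57.isInvertible_of_tensorMod_iso)]
  exact euler_sub_pos (dim_support_effCartier (k := k) hdim hF hne) hH hM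

omit [X.Over (Spec (CommRingCat.of k))] [IsProper (X ↘ (Spec (CommRingCat.of k)))] [IsIntegral X] in
theorem IsCurve.ne_top {C : X.IdealSheafData} (hC : IsCurve C) : C ≠ ⊤ := by
  intro h
  obtain ⟨η, hη⟩ := hC.exists_genericPoint
  have hmem := hη.mem
  rw [h, Scheme.IdealSheafData.support_top] at hmem
  exact hmem.elim

end Groth.Agent.Surf15
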