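import Groth.Agent.Surf15.Rational

/-! Rationality from the fundamental cycle. -/

set_option autoImplicit false
set_option backward.isDefEq.respectTransparency.types false
set_option linter.style.haveILetI false
universe u

open CategoryTheory CategoryTheory.Limits AlgebraicGeometry TopologicalSpace

noncomputable section

namespace Groth.Agent.Surf15

variable {k : Type u} [Field k] {X : Scheme.{u}} [X.Over (Spec (CommRingCat.of k))]
  [IsProper (X ↘ (Spec (CommRingCat.of k)))] [IsIntegral X] (hdim : topologicalKrullDim X = 2)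
  (hreg : ∀ x : X, IsRegularLocalRing (X.presheaf.stalk x)) {r : ℕ} {C : Fin r → X.IdealSheafData}
  (hC : ∀ i, IsCurve (C i))
include hdim hreg hC

include k in
theorem support_prod_pow_subset (b : Fin r → ℕ) :
    ((∏ j, C j ^ b j).support : Set X) ⊆ ⋃ i, ((C i).support : Set X) := by
  haveI := Crv77.isNoetherian_of_proper k X
  intro x hx
  by_contra h
  refine (Div89.mem_support_iff_stalkIdeal _ x).1 hx |> fun hle => ?_
  have htop : Div89.stalkIdeal (∏ j, C j ^ b j) x = ⊤ := by
    rw [Div89.stalkIdeal_prod, Finset.prod_eq_one fun j _ => ?_, Ideal.one_eq_top]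
    rw [Div89.stalkIdeal_pow, (Div89.notMem_support_iff_stalkIdeal _ _).1 fun hj => h (Set.mem_iUnion.2 ⟨j, hj⟩),
      ← Ideal.one_eq_top, one_pow]
  rw [htop] at hle
  exact (IsLocalRing.maximalIdeal.isMaximal _).ne_top (top_le_iff.1 hle)

/-- The exponents of a fundamental cycle. -/
theorem exists_fundamental (hinj : Function.Injective C)
    (hconn : ∀ S : Finset (Fin r), S.Nonempty → Sᶜ.Nonempty →
      ∃ i ∈ S, ∃ j ∈ Sᶜ, inter k (ClSub.idealMod (C i)) (ClSub.idealMod (C j)) ≠ 0)
    {Z₀ : X.IdealSheafData} (hZ₀ : BlowUp.IsEffCartierIdeal Z₀) (hZ₀0 : Z₀ ≠ ⊤)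
    (hZ₀s : (Z₀.support : Set X) ⊆ ⋃ i, ((C i).support : Set X))
    (hZ₀C : ∀ i, 0 ≤ deg k (C i) (ClSub.idealMod Z₀))
    (hmin : ∀ Z : X.IdealSheafData, BlowUp.IsEffCartierIdeal Z → Z ≠ ⊤ →
      (Z.support : Set X) ⊆ ⋃ i, ((C i).support : Set X) →
      (∀ i, 0 ≤ deg k (C i) (ClSub.idealMod Z)) → Z ≤ Z₀) :
    ∃ z : Fin r → ℕ, Z₀ = ∏ j, C j ^ z j ∧ (∀ i, 1 ≤ z i) ∧
      (∀ i, dotVec (fun p q => inter k (ClSub.idealMod (C p)) (ClSub.idealMod (C q))) z i ≤ 0) ∧
      ∀ b : Fin r → ℕ, b ≠ 0 → (∀ i, b i ≤ z i) → b ≠ z →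
        ∃ i, b i < z i ∧ 0 < dotVec (fun p q => inter k (ClSub.idealMod (C p)) (ClSub.idealMod (C q))) b i := by
  haveI := Crv77.isNoetherian_of_proper k X
  obtain ⟨z, rfl⟩ := exists_eq_prod (k := k) hdim hreg hC hZ₀ hZ₀s
  have hG := fun i => isInvertible_idealMod ((hC i).isEffCartier (k := k) hdim hreg)
  have hz : ∀ i, dotVec (fun p q => inter k (ClSub.idealMod (C p)) (ClSub.idealMod (C q))) z i ≤ 0 := fun i => by
    have := hZ₀C i
    rw [deg_prod hdim hreg hC z i] at this
    linarith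
  obtain ⟨h1, h2⟩ := fundamental_spec _
    (fun i j hij => inter_nonneg (k := k) hdim hreg (hC i) ((hC j).isEffCartier (k := k) hdim hreg)
      ((hC i).not_subset (k := k) (hC j) fun e => hij (hinj e)))
    (fun i j => inter_comm hdim (hG i) (hG j)) hconn z
    (fun e => hZ₀0 (e ▸ prod_pow_eq_top (k := k) C)) hz fun b hb hb' =>
      (prod_pow_le_iff (k := k) hdim hreg hC hinj b z).1
        (hmin _ (isEffCartier_prod_pow (k := k) hdim hreg hC b) (prod_pow_ne_top (k := k) hdim hreg hC hinj hb)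
          (support_prod_pow_subset (k := k) hdim hreg hC b) fun i => by
            rw [deg_prod hdim hreg hC b i]
            linarith [hb' i])
  exact ⟨z, rfl, h1, hz, h2⟩

variable [IsAlgClosed k]

/-- If the fundamental cycle has genus zero, every cycle on the configuration has `H¹ = 0`. -/
theorem h1_all (hinj : Function.Injective C) (z : Fin r → ℕ) (i₀ : Fin r) (hz1 : ∀ i, 1 ≤ z i)
    (hz : ∀ i, dotVec (fun p q => inter k (ClSub.idealMod (C p)) (ClSub.idealMod (C q))) z i ≤ 0)
    (hstep : ∀ b : Fin r → ℕ, b ≠ 0 → (∀ i, b i ≤ z i) → b ≠ z →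
        ∃ i, b i < z i ∧ 0 < dotVec (fun p q => inter k (ClSub.idealMod (C p)) (ClSub.idealMod (C q))) b i)
    (hg : 1 ≤ Curv2.euler k X (ClSub.quotMod (∏ j, C j ^ z j))) (b : Fin r → ℕ) :
    Subsingleton (Coh.HH X (ClSub.quotMod (∏ j, C j ^ b j)) 1) := by
  haveI := Crv77.isNoetherian_of_proper k X
  have hI := isEffCartier_prod_pow (k := k) hdim hreg hC z
  have hn : ∀ n : ℕ, Subsingleton (Coh.HH X (ClSub.quotMod (∏ j, C j ^ (n • z) j)) 1) := by
    intro n
    induction n with
    | zero =>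
      rw [zero_smul, prod_pow_eq_top (k := k)]
      exact (Crv77.suppIn_quotMod (⊤ : X.IdealSheafData)).subsingleton_HH
        (by rw [Scheme.IdealSheafData.support_top]; exact Set.finite_empty)
        (by rw [Scheme.IdealSheafData.support_top]; exact fun x hx => hx.elim) 0
    | succ n ih =>
      have hJ := isEffCartier_prod_pow (k := k) hdim hreg hC (n • z)
      have e : ∏ j, C j ^ ((n + 1) • z) j = (∏ j, C j ^ z j) * ∏ j, C j ^ (n • z) j := by
        rw [← Finset.prod_mul_distrib]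
        exact Finset.prod_congr rfl fun j _ => by
          rw [← pow_add]; congr 1; simp only [Pi.smul_apply, smul_eq_mul]; ring
      rw [e]
      refine h1_mul (k := k) hI hJ (h1_chain hdim hreg hC z hstep i₀ (hz1 i₀) (isInvertible_idealMod hJ)
        (fun i _ => ?_) hg) ih
      rw [deg_prod hdim hreg hC _ i]
      have h : dotVec (fun p q => inter k (ClSub.idealMod (C p)) (ClSub.idealMod (C q))) (n • z) i =
          (n : ℤ) * dotVec (fun p q => inter k (ClSub.idealMod (C p)) (ClSub.idealMod (C q))) z i := by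
        simp only [dotVec, Pi.smul_apply, smul_eq_mul, Nat.cast_mul, mul_assoc, ← Finset.mul_sum]
      rw [h]
      exact neg_nonneg.2 (mul_nonpos_of_nonneg_of_nonpos (Nat.cast_nonneg _) (hz i))
  let N := (∑ i, b i) + 1
  have hlt : ∀ i, b i < (N • z) i := fun i => by
    have h1 : b i ≤ ∑ i, b i := Finset.single_le_sum (fun j _ => Nat.zero_le (b j)) (Finset.mem_univ i)
    simp only [Pi.smul_apply, smul_eq_mul]
    calc b i < N * 1 := by omega
      _ ≤ N * z i := Nat.mul_le_mul_left _ (hz1 i)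
  refine h1_of_le (k := k) hdim hreg hC b _ (fun i => (hlt i).le) ?_ (hn N)
  refine prod_pow_ne_top (k := k) hdim hreg hC hinj fun h => ?_
  have := congrFun h i₀
  simp only [Pi.sub_apply, Pi.zero_apply] at this
  have := hlt i₀
  omega

end Groth.Agent.Surf15
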