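import Groth.Agent.Surf15.Euler
import Groth.Agent.Surf15.Form
import Mathlib.LinearAlgebra.Matrix.ToLinearEquiv

/-! The nef and big module orthogonal to a negative definite configuration. -/

set_option autoImplicit false
set_option backward.isDefEq.respectTransparency.types false
set_option linter.style.haveILetI false
universe u

open CategoryTheory CategoryTheory.Limits AlgebraicGeometry TopologicalSpace
open scoped Matrix

noncomputable section

namespace Groth.Agent.Surf15

/-- Integral solutions, up to a positive multiple, for negative definite forms. -/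
theorem exists_solution {r : ℕ} (G : Fin r → Fin r → ℤ) (hsym : ∀ i j, G i j = G j i)
    (hoff : ∀ i j, i ≠ j → 0 ≤ G i j)
    (hneg : ∀ a : Fin r → ℤ, a ≠ 0 → ∑ i, ∑ j, a i * a j * G i j < 0)
    (h : Fin r → ℤ) (hh : ∀ i, 0 < h i) :
    ∃ (N : ℕ) (s : Fin r → ℕ), 0 < N ∧ ∀ j, ∑ i, (s i : ℤ) * G i j = -((N : ℤ) * h j) := by
  classical
  have hdet : (Matrix.of G).det ≠ 0 := fun hd => by
    obtain ⟨v, hv, hv0⟩ := Matrix.exists_mulVec_eq_zero_iff.2 hd
    refine absurd (hneg v hv) (not_lt.2 (le_of_eq (Finset.sum_eq_zero fun i _ => ?_).symm))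
    have h1 : ∑ j, G i j * v j = 0 := congrFun hv0 i
    rw [← mul_zero (v i), ← h1, Finset.mul_sum]
    exact Finset.sum_congr rfl fun j _ => by ring
  let d := (Matrix.of G).det
  let w : Fin r → ℤ := (Matrix.of G).adjugate *ᵥ (fun j => - h j)
  let s : Fin r → ℤ := fun i => d.sign * w i
  have hs : ∀ j, ∑ i, s i * G i j = -((d.natAbs : ℤ) * h j) := by
    intro j
    have e1 : (Matrix.of G *ᵥ w) j = d * (- h j) := by
      rw [show Matrix.of G *ᵥ w = d • (fun j => - h j) from by
        rw [Matrix.mulVec_mulVec, Matrix.mul_adjugate, Matrix.smul_mulVec, Matrix.one_mulVec]]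
      rfl
    have e2 : ∑ i, s i * G i j = d.sign * (Matrix.of G *ᵥ w) j := by
      show _ = d.sign * ∑ i, G j i * w i
      rw [Finset.mul_sum]
      refine Finset.sum_congr rfl fun i _ => ?_
      rw [hsym i j]
      ring
    rw [e2, e1, ← mul_assoc, Int.sign_mul_self_eq_natAbs, mul_neg]
  have hN : 0 < d.natAbs := Int.natAbs_pos.2 hdet
  have hpos := coeff_nonneg G hoff s (fun t _ ht => hneg t ht) fun j _ => by
    rw [hs j]
    exact neg_nonpos.2 (mul_nonneg (Nat.cast_nonneg _) (hh j).le)
  refine ⟨d.natAbs, fun i => (s i).toNat, hN, fun j => ?_⟩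
  rw [← hs j]
  exact Finset.sum_congr rfl fun i _ => by rw [Int.toNat_of_nonneg (hpos i)]

variable {k : Type u} [Field k] {X : Scheme.{u}} [X.Over (Spec (CommRingCat.of k))]
  [IsProper (X ↘ (Spec (CommRingCat.of k)))]

open scoped Groth.Agent.FGA29 in
/-- The intersection number with an inverse. -/
theorem inter_inverse_left (hdim : topologicalKrullDim X = 2) {A B M : X.Modules} (hA : PicF.IsInvertible A)
    (hB : PicF.IsInvertible B) (hM : PicF.IsInvertible M)
    (h : Nonempty (CohB1.tensorMod A B ≅ Coh.structureModule X)) : inter k A M = - inter k B M := by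
  have h1 := inter_add_left (k := k) hdim hA hB hM
  rw [inter_congr hdim (EGA73.isInvertible_tensorMod hA hB) EGA73.isInvertible_structureModule hM hM
    (Quot.sound h) rfl, inter_unit_left hdim hM] at h1
  linarith

theorem inter_tensorPow_left (hdim : topologicalKrullDim X = 2) {A M : X.Modules} (hA : PicF.IsInvertible A)
    (hM : PicF.IsInvertible M) : ∀ n : ℕ, inter k (CohB1.tensorPow A n) M = n * inter k A M
  | 0 => by
    rw [Nat.cast_zero, zero_mul]
    exact inter_unit_left hdim hM
  | n + 1 => by
    rw [CohB1.tensorPow, inter_add_left hdim (EGA73.isInvertible_tensorPow hA n) hA hM,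
      inter_tensorPow_left hdim hA hM n]
    push_cast
    ring

/-- The self-intersection of an inverse of an ample module is positive. -/
theorem inter_self_pos [IsIntegral X] (hdim : topologicalKrullDim X = 2) {H M : X.Modules}
    (hH : CohB1.IsAmple H) (hM : Nonempty (CohB1.tensorMod M H ≅ Coh.structureModule X)) :
    0 < inter k M M := by
  haveI := Crv77.isNoetherian_of_proper k X
  let f := X ↘ (Spec (CommRingCat.of k))
  have hδ := FGA29.deltaCompat_tdegN (X := X) k
  have hX := Cyc90.isSetup_of_field f _ hδ
  have hMi : PicF.IsInvertible M := hM.elim Inv57.isInvertible_of_tensorMod_iso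
  rw [inter_eq_intE hdim hMi hMi, show ![M, M] = fun _ : Fin 2 => M from funext fun i => by fin_cases i <;> rfl]
  refine FGA29.intE_pos_of_ample hX k hδ (fun _ : Fin 2 => H) _ (fun _ => hH) (fun _ => hM)
    (FGA29.cohLe_of_dim_le k hδ hX Crv77.isCoh_structureModule
      ((topologicalKrullDim_subspace_le X _).trans (dim_le_two' hdim))) ⟨genericPoint X, ?_, QC70.nontrivial_stalk_unit _⟩
  have h := WC97.topologicalKrullDim_closure f (genericPoint X)
  rw [(genericPoint_spec X).def, (Homeomorph.Set.univ (X : Type u)).isHomeomorph.topologicalKrullDim_eq,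
    hdim] at h
  norm_cast at h ⊢
  exact_mod_cast h.symm

end Groth.Agent.Surf15
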