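import Groth.Agent.SurfInt93.Inter
import Groth.Agent.FGA29.IntNumCurves
import Groth.Agent.Crv77.Twist
import Groth.Agent.Div89.UFD
import Groth.Agent.Div89.Codim
import Groth.Agent.RegUFD52.Basic
import Groth.Agent.NeronHD28.SmoothReg
import Groth.Agent.Crv77.RR
import Groth.Agent.EGA4H10.CompleteUC

/-! Intersection numbers of divisors and curves on regular proper surfaces. -/

set_option autoImplicit false
set_option backward.isDefEq.respectTransparency.types false
set_option linter.style.haveILetI false
universe u

open CategoryTheory CategoryTheory.Limits AlgebraicGeometry TopologicalSpace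

noncomputable section

namespace Groth.Agent.Surf15

theorem eq_one_of_one_add {d : WithBot ℕ∞} (h : ((1 : ℕ) : WithBot ℕ∞) + d = ((2 : ℕ) : WithBot ℕ∞)) : d = 1 := by
  induction d using WithBot.recBotCoe with
  | bot => simp at h
  | coe d =>
    change ((((1 : ℕ) : ℕ∞) : WithBot ℕ∞) + (d : WithBot ℕ∞)) = (((2 : ℕ) : ℕ∞) : WithBot ℕ∞) at h
    rw [← WithBot.coe_add, WithBot.coe_inj] at h
    induction d using ENat.recTopCoe with
    | top => simp at h
    | coe d =>
      rw [← Nat.cast_add, Nat.cast_inj] at h
      rw [show d = 1 by omega]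
      rfl
theorem tdeg_eq_one_of_add {t : ℕ} (h : (t : WithBot ℕ∞) + 1 = ((2 : ℕ) : WithBot ℕ∞)) : t = 1 := by
  change ((((t : ℕ) : ℕ∞) : WithBot ℕ∞) + ((((1 : ℕ) : ℕ∞)) : WithBot ℕ∞)) = (((2 : ℕ) : ℕ∞) : WithBot ℕ∞) at h
  rw [← WithBot.coe_add, WithBot.coe_inj, ← Nat.cast_add, Nat.cast_inj] at h
  omega


variable {k : Type u} [Field k] {X : Scheme.{u}} [X.Over (Spec (CommRingCat.of k))]
  [IsProper (X ↘ (Spec (CommRingCat.of k)))]

variable (k) in
/-- The intersection number of two invertible modules on a surface. -/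
abbrev inter (A B : X.Modules) : ℤ := FGA.intNum k X 2 ![A, B] (Coh.structureModule X)

theorem dim_le_two' (hdim : topologicalKrullDim X = 2) :
    topologicalKrullDim X ≤ ((2 : ℕ) : WithBot ℕ∞) := hdim.le

theorem inter_eq_intE (hdim : topologicalKrullDim X = 2) {A B : X.Modules} (hA : PicF.IsInvertible A)
    (hB : PicF.IsInvertible B) :
    inter k A B = Cyc90.Dev.intE k ![A, B] (Coh.structureModule X) :=
  FGA29.intNum_eq_intE k (dim_le_two' hdim) (fun i => by fin_cases i <;> assumption)
    Crv77.isCoh_structureModule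

open scoped Groth.Agent.FGA29 in
/-- The expansion in Euler characteristics. -/
theorem inter_eq (hdim : topologicalKrullDim X = 2) {A B : X.Modules} (hA : PicF.IsInvertible A)
    (hB : PicF.IsInvertible B) :
    inter k A B = Curv2.euler k X (Coh.structureModule X) - Curv2.euler k X A - Curv2.euler k X B +
      Curv2.euler k X (CohB1.tensorMod A B) := by
  rw [inter_eq_intE hdim hA hB,
    show ![A, B] = Fin.cons A (Fin.cons B ![]) from rfl, FGA29.intE_cons, FGA29.intE_cons,
    FGA29.intE_cons, FGA29.intE_zero, FGA29.intE_zero, FGA29.intE_zero, FGA29.intE_zero]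
  have e1 : Curv2.euler k X (CohB1.tensorMod (Coh.structureModule X) A) = Curv2.euler k X A :=
    FGA29.euler_cl k (by rw [FGA29.cl_tensor, FGA29.cl_one, one_mul])
  have e2 : Curv2.euler k X (CohB1.tensorMod (Coh.structureModule X) B) = Curv2.euler k X B :=
    FGA29.euler_cl k (by rw [FGA29.cl_tensor, FGA29.cl_one, one_mul])
  have e3 : Curv2.euler k X (CohB1.tensorMod (CohB1.tensorMod (Coh.structureModule X) A) B) =
      Curv2.euler k X (CohB1.tensorMod A B) :=
    FGA29.euler_cl k (by rw [FGA29.cl_tensor, FGA29.cl_tensor, FGA29.cl_tensor, FGA29.cl_one, one_mul])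
  rw [e1, e2, e3]
  ring

open scoped Groth.Agent.FGA29 in
theorem inter_comm (hdim : topologicalKrullDim X = 2) {A B : X.Modules} (hA : PicF.IsInvertible A)
    (hB : PicF.IsInvertible B) : inter k A B = inter k B A := by
  rw [inter_eq hdim hA hB, inter_eq hdim hB hA,
    FGA29.euler_cl k (F := CohB1.tensorMod A B) (G := CohB1.tensorMod B A)
      (by rw [FGA29.cl_tensor, FGA29.cl_tensor, mul_comm])]
  ring

open scoped Groth.Agent.FGA29 in
theorem inter_congr (hdim : topologicalKrullDim X = 2) {A A' B B' : X.Modules} (hA : PicF.IsInvertible A)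
    (hA' : PicF.IsInvertible A') (hB : PicF.IsInvertible B) (hB' : PicF.IsInvertible B')
    (h : PicF.cl A = PicF.cl A') (h' : PicF.cl B = PicF.cl B') : inter k A B = inter k A' B' := by
  rw [inter_eq hdim hA hB, inter_eq hdim hA' hB', FGA29.euler_cl k h, FGA29.euler_cl k h',
    FGA29.euler_cl k (F := CohB1.tensorMod A B) (G := CohB1.tensorMod A' B')
      (by rw [FGA29.cl_tensor, FGA29.cl_tensor, h, h'])]

/-- Bilinearity. -/
theorem inter_add_left (hdim : topologicalKrullDim X = 2) {A B M : X.Modules} (hA : PicF.IsInvertible A)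
    (hB : PicF.IsInvertible B) (hM : PicF.IsInvertible M) :
    inter k (CohB1.tensorMod A B) M = inter k A M + inter k B M := by
  rw [inter_eq_intE hdim (EGA73.isInvertible_tensorMod hA hB) hM, inter_eq_intE hdim hA hM,
    inter_eq_intE hdim hB hM,
    show ![CohB1.tensorMod A B, M] = Fin.cons (CohB1.tensorMod A B) ![M] from rfl,
    show ![A, M] = Fin.cons A ![M] from rfl, show ![B, M] = Fin.cons B ![M] from rfl]
  exact FGA29.intE_add_left k (fun i => by fin_cases i; exact hM) hA hB Crv77.isCoh_structureModule
    ((topologicalKrullDim_subspace_le X _).trans (dim_le_two' hdim))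

theorem inter_add_right (hdim : topologicalKrullDim X = 2) {A B M : X.Modules} (hA : PicF.IsInvertible A)
    (hB : PicF.IsInvertible B) (hM : PicF.IsInvertible M) :
    inter k M (CohB1.tensorMod A B) = inter k M A + inter k M B := by
  rw [inter_comm hdim hM (EGA73.isInvertible_tensorMod hA hB), inter_add_left hdim hA hB hM,
    inter_comm hdim hA hM, inter_comm hdim hB hM]

open scoped Groth.Agent.FGA29 in
theorem inter_unit_left (hdim : topologicalKrullDim X = 2) {M : X.Modules} (hM : PicF.IsInvertible M) :
    inter k (Coh.structureModule X) M = 0 := by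
  rw [inter_eq hdim EGA73.isInvertible_structureModule hM,
    FGA29.euler_cl k (F := CohB1.tensorMod (Coh.structureModule X) M) (G := M)
      (by rw [FGA29.cl_tensor, FGA29.cl_one, one_mul])]
  ring

/-- `χ(I ⊗ L) + χ(O_I ⊗ L) = χ(L)`. -/
theorem euler_twist_idealSeq (I : X.IdealSheafData) {L : X.Modules} (hL : PicF.IsInvertible L) :
    Curv2.euler k X L = Curv2.euler k X (CohB1.tensorMod (ClSub.idealMod I) L) +
      Curv2.euler k X (CohB1.tensorMod (ClSub.quotMod I) L) := by
  haveI := Crv77.isNoetherian_of_proper k X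
  obtain ⟨@⟨A, B, C, f, g, w⟩, hT, e₁, e₂, e₃⟩ :=
    Crv77.shortExact_twist (Mero90.isFinLocFreeOfRank_of_isInvertible hL) (Crv77.idealSeq_shortExact I)
  subst e₁ e₂ e₃
  have hc : ∀ M : X.Modules, Coh.IsCoh M → Coh.IsCoh (CohB1.tensorMod M L) := fun M hM =>
    Amp73.isCoh_tensorMod hM (Amp73.isCoh_of_isInvertible hL)
  have h := Snapper75.euler_add k hT (hc _ (Crv77.isCoh_idealMod I))
    (hc _ Crv77.isCoh_structureModule) (hc _ (Crv77.isCoh_quotMod I))
  exact (Crv77.euler_congr (EGA73.tensUnitLeft L)).symm.trans h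

/-- `(I · L)` is minus the degree of `L` on the closed subscheme of `I`. -/
theorem inter_idealMod_eq (hdim : topologicalKrullDim X = 2) {I : X.IdealSheafData}
    (hI : BlowUp.IsEffCartierIdeal I) {L : X.Modules} (hL : PicF.IsInvertible L) :
    inter k (ClSub.idealMod I) L =
      Curv2.euler k X (ClSub.quotMod I) - Curv2.euler k X (CohB1.tensorMod (ClSub.quotMod I) L) := by
  haveI := Crv77.isNoetherian_of_proper k X
  rw [inter_eq hdim ((Curves2.isInvertible_idealMod_iff I).2 hI) hL]
  have h1 := Snapper75.euler_add k (Crv77.idealSeq_shortExact I) (Crv77.isCoh_idealMod I)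
    Crv77.isCoh_structureModule (Crv77.isCoh_quotMod I)
  change Curv2.euler k X (Coh.structureModule X) = Curv2.euler k X (ClSub.idealMod I) +
    Curv2.euler k X (ClSub.quotMod I) at h1
  have h2 := euler_twist_idealSeq (k := k) I hL
  linarith

/-- An integral curve. -/
structure IsCurve (C : X.IdealSheafData) : Prop where
  integral : IsIntegral C.subscheme
  dim : topologicalKrullDim (C.support : Set X) = 1

section Dim

variable [IsIntegral X]

include k in
theorem localDim_eq_two (hdim : topologicalKrullDim X = 2) (x : X) :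
    FlatMor.localDim X x = ((2 : ℕ) : WithBot ℕ∞) := by
  refine le_antisymm ((TopDim50.localDim_le_dim x).trans hdim.le) ?_
  let f := X ↘ (Spec (CommRingCat.of k))
  have h1 : FlatMor.localDim X (genericPoint X) ≤ FlatMor.localDim X x :=
    le_iInf fun U => TopDim50.localDim_le U.1 ((genericPoint_specializes x).mem_open U.1.isOpen U.2)
  refine le_trans ?_ h1
  rw [Grpd80.LocDim.localDim_eq_tdegN_add f]
  refine le_trans ?_ (le_add_of_nonneg_right ringKrullDim_nonneg_of_nontrivial)
  have h := WC97.topologicalKrullDim_closure f (genericPoint X)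
  rw [(genericPoint_spec X).def, (Homeomorph.Set.univ (X : Type u)).isHomeomorph.topologicalKrullDim_eq,
    hdim] at h
  exact h.le

include k in
theorem dim_stalk_add (hdim : topologicalKrullDim X = 2) (x : X) :
    (WC97.tdegN (X ↘ (Spec (CommRingCat.of k))) x : WithBot ℕ∞) + ringKrullDim (X.presheaf.stalk x) =
      ((2 : ℕ) : WithBot ℕ∞) := by
  rw [← Grpd80.LocDim.localDim_eq_tdegN_add, localDim_eq_two (k := k) hdim]

variable (hdim : topologicalKrullDim X = 2) (hreg : ∀ x : X, IsRegularLocalRing (X.presheaf.stalk x))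

include hreg in
omit [X.Over (Spec (CommRingCat.of k))] [IsProper (X ↘ (Spec (CommRingCat.of k)))] [IsIntegral X] in
theorem ufm_stalk (x : X) :
    IsDomain (X.presheaf.stalk x) ∧ UniqueFactorizationMonoid (X.presheaf.stalk x) := by
  haveI := hreg x
  haveI : IsDomain (X.presheaf.stalk x) := CAlg1.isDomain_regular _
  exact ⟨inferInstance, RegUFD52.ufm_of_regular _⟩

include hreg in
omit [X.Over (Spec (CommRingCat.of k))] [IsProper (X ↘ (Spec (CommRingCat.of k)))] [IsIntegral X] in
theorem isCM_stalk (x : X) : LocCoh.IsCohenMacaulayLocalRing (X.presheaf.stalk x) := by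
  haveI := hreg x
  exact EGA4H10.isCohenMacaulayLocalRing_of_regular _

omit [X.Over (Spec (CommRingCat.of k))] [IsProper (X ↘ (Spec (CommRingCat.of k)))] [IsIntegral X] in
theorem IsCurve.exists_genericPoint {C : X.IdealSheafData} (hC : IsCurve C) :
    ∃ η, IsGenericPoint η (C.support : Set X) := by
  haveI := hC.integral
  refine ⟨C.subschemeι (genericPoint C.subscheme), ?_⟩
  have h := (genericPoint_spec C.subscheme).image C.subschemeι.continuous
  rwa [Set.image_univ, C.range_subschemeι, (C.support.isClosed).closure_eq] at h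

include k hdim in
theorem IsCurve.dim_stalk {C : X.IdealSheafData} (hC : IsCurve C) {η : X}
    (hη : IsGenericPoint η (C.support : Set X)) : ringKrullDim (X.presheaf.stalk η) = 1 := by
  have h1 := WC97.topologicalKrullDim_closure (X ↘ (Spec (CommRingCat.of k))) η
  rw [hη.def, hC.dim] at h1
  have h2 := dim_stalk_add (k := k) hdim η
  have h3 : WC97.tdegN (X ↘ (Spec (CommRingCat.of k))) η = 1 := by exact_mod_cast h1.symm
  rw [h3] at h2
  exact eq_one_of_one_add h2

include k hdim hreg in
theorem IsCurve.isEffCartier {C : X.IdealSheafData} (hC : IsCurve C) :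
    BlowUp.IsEffCartierIdeal C := by
  haveI := Crv77.isNoetherian_of_proper k X
  haveI := hC.integral
  obtain ⟨η, hη⟩ := hC.exists_genericPoint
  refine Div89.isEffCartier_of_radical_codim_one_ufd C (Div89.ideal_isRadical_of_isReduced C)
    (fun z hz hmax => ?_) fun x _ => ufm_stalk hreg x
  rw [← hmax η hη.mem (hη.specializes hz)]
  exact hC.dim_stalk (k := k) hdim hη

omit [X.Over (Spec (CommRingCat.of k))] [IsProper (X ↘ (Spec (CommRingCat.of k)))] [IsIntegral X] in
theorem eq_vanishingIdeal {C : X.IdealSheafData} [IsReduced C.subscheme] :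
    Scheme.IdealSheafData.vanishingIdeal C.support = C := by
  rw [Scheme.IdealSheafData.vanishingIdeal_support]
  ext U : 2
  exact (Div89.ideal_isRadical_of_isReduced C U).radical

omit [X.Over (Spec (CommRingCat.of k))] [IsProper (X ↘ (Spec (CommRingCat.of k)))] [IsIntegral X] in
/-- A proper closed subset of the support of a curve is finite. -/
theorem IsCurve.finite_inter [IsNoetherian X] {C : X.IdealSheafData} (hC : IsCurve C) {S : Set X}
    (hS : IsClosed S) (h : ¬ (C.support : Set X) ⊆ S) : ((C.support : Set X) ∩ S).Finite := by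
  haveI := hC.integral
  have hd : topologicalKrullDim C.subscheme = 1 := by
    rw [IsHomeomorph.topologicalKrullDim_eq _
      C.subschemeι.isClosedEmbedding.isEmbedding.toHomeomorph.isHomeomorph, C.range_subschemeι, hC.dim]
  haveI : NoetherianSpace C.subscheme :=
    C.subschemeι.isClosedEmbedding.isEmbedding.isInducing.noetherianSpace
  have hfin : (C.subschemeι ⁻¹' S).Finite := by
    refine Crv77.finite_of_isClosed' hd.le (hS.preimage C.subschemeι.continuous) fun hg => h ?_
    rw [← C.range_subschemeι]
    rintro _ ⟨z, rfl⟩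
    exact (genericPoint_specializes z).mem_closed (hS.preimage C.subschemeι.continuous) hg
  refine (hfin.image C.subschemeι).subset ?_
  rintro x ⟨hx, hxS⟩
  rw [← C.range_subschemeι] at hx
  obtain ⟨z, rfl⟩ := hx
  exact ⟨z, hxS, rfl⟩

include k in
omit [IsIntegral X] in
/-- Distinct curves have no common component. -/
theorem IsCurve.not_subset [IsNoetherian X] {C D : X.IdealSheafData} (hC : IsCurve C) (hD : IsCurve D)
    (hne : C ≠ D) : ¬ (C.support : Set X) ⊆ (D.support : Set X) := by
  intro h
  haveI := hC.integral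
  haveI := hD.integral
  obtain ⟨η, hη⟩ := hC.exists_genericPoint
  by_cases hDC : (D.support : Set X) ⊆ (C.support : Set X)
  · exact hne (by rw [← eq_vanishingIdeal (C := C), ← eq_vanishingIdeal (C := D),
      show C.support = D.support from SetLike.coe_injective (h.antisymm hDC)])
  · have hf := hD.finite_inter C.support.isClosed hDC
    rw [Set.inter_eq_right.2 h] at hf
    haveI : Finite (C.support : Set X) := hf.to_subtype
    haveI : JacobsonSpace X := LocallyOfFiniteType.jacobsonSpace (X ↘ (Spec (CommRingCat.of k)))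
    have hcl := SurfInt93.isClosed_of_mem_finite C.support.isClosed hf hη.mem
    have h1 : (C.support : Set X) = {η} := by rw [← hη.def, hcl.closure_eq]
    have hd := hC.dim
    rw [h1] at hd
    have h2 := WC97.topologicalKrullDim_closure (X ↘ (Spec (CommRingCat.of k))) η
    rw [hcl.closure_eq, Grpd80.LocDim.tdegN_eq_zero_of_isClosed _ hcl, hd] at h2
    exact absurd h2 (by norm_num)

include hdim hreg in
/-- A curve meets an effective divisor not containing it nonnegatively. -/
theorem inter_nonneg {C F : X.IdealSheafData} (hC : IsCurve C) (hF : BlowUp.IsEffCartierIdeal F)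
    (h : ¬ (C.support : Set X) ⊆ (F.support : Set X)) :
    0 ≤ inter k (ClSub.idealMod C) (ClSub.idealMod F) := by
  haveI := Crv77.isNoetherian_of_proper k X
  have hfin : ((C ⊔ F).support : Set X).Finite := by
    refine (hC.finite_inter F.support.isClosed h).subset ?_
    exact fun x hx => ⟨Scheme.IdealSheafData.support_antitone le_sup_left hx,
      Scheme.IdealSheafData.support_antitone le_sup_right hx⟩
  have hcomp : ∀ Z ∈ irreducibleComponents (X : Type u), topologicalKrullDim Z = 2 := by
    intro Z hZ
    rw [irreducibleComponents_eq_singleton, Set.mem_singleton_iff] at hZ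
    rw [hZ, (Homeomorph.Set.univ (X : Type u)).isHomeomorph.topologicalKrullDim_eq, hdim]
  rw [inter, SurfInt93.main k hcomp (isCM_stalk hreg) C F (hC.isEffCartier (k := k) hdim hreg) hF hfin]
  exact Int.natCast_nonneg _

end Dim

end Groth.Agent.Surf15
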