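import Mathlib.Algebra.BigOperators.Fin
import Mathlib.Algebra.Order.BigOperators.Group.Finset
import Mathlib.Tactic.Ring
import Mathlib.Tactic.Linarith

/-! Computation sequences for vectors of exponents. -/

set_option autoImplicit false

namespace Groth.Agent.Surf15

variable {r : ℕ} (G : Fin r → Fin r → ℤ)

/-- The product of a vector with the `i`-th basis vector. -/
def dotVec (b : Fin r → ℕ) (i : Fin r) : ℤ := ∑ j, (b j : ℤ) * G j i

/-- Induction along a computation sequence from a basis vector to `z`. -/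
theorem chain_induction (z : Fin r → ℕ)
    (hstep : ∀ b : Fin r → ℕ, b ≠ 0 → (∀ i, b i ≤ z i) → b ≠ z → ∃ i, b i < z i ∧ 0 < dotVec G b i)
    {P : (Fin r → ℕ) → Prop} (i₀ : Fin r) (hz : 1 ≤ z i₀) (h0 : P (Pi.single i₀ 1))
    (hs : ∀ b i, b ≠ 0 → 1 ≤ b i₀ → b i < z i → 0 < dotVec G b i → P b → P (b + Pi.single i 1)) : P z := by
  suffices h : ∀ n, ∀ b : Fin r → ℕ, (∑ i, (z i - b i)) = n → (∀ i, b i ≤ z i) → 1 ≤ b i₀ → P b → P z by
    refine h _ _ rfl (fun i => ?_) (by rw [Pi.single_eq_same]) h0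
    by_cases hi : i = i₀
    · subst hi; rw [Pi.single_eq_same]; exact hz
    · rw [Pi.single_eq_of_ne hi]; exact Nat.zero_le _
  intro n
  induction n using Nat.strong_induction_on with
  | _ n ih =>
  intro b hn hb hb1 hP
  by_cases he : b = z
  · exact he ▸ hP
  have hb0 : b ≠ 0 := fun h => by rw [h] at hb1; simp at hb1
  obtain ⟨i, hi, hpos⟩ := hstep b hb0 hb he
  refine ih (∑ j, (z j - (b + Pi.single i 1 : Fin r → ℕ) j)) ?_ (b + Pi.single i 1) rfl (fun j => ?_) ?_
    (hs b i hb0 hb1 hi hpos hP)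
  · rw [← hn]
    refine Finset.sum_lt_sum (fun j _ => ?_) ⟨i, Finset.mem_univ _, ?_⟩
    · simp only [Pi.add_apply]; omega
    · simp only [Pi.add_apply, Pi.single_eq_same]; omega
  · simp only [Pi.add_apply]
    by_cases hj : j = i
    · subst hj; rw [Pi.single_eq_same]; omega
    · rw [Pi.single_eq_of_ne hj]; exact hb j
  · simp only [Pi.add_apply]; omega

/-- A minimal antinef vector of a connected configuration: full support and computation sequences. -/
theorem fundamental_spec (hoff : ∀ i j, i ≠ j → 0 ≤ G i j) (hsym : ∀ i j, G i j = G j i)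
    (hconn : ∀ S : Finset (Fin r), S.Nonempty → Sᶜ.Nonempty → ∃ i ∈ S, ∃ j ∈ Sᶜ, G i j ≠ 0)
    (z : Fin r → ℕ) (hz0 : z ≠ 0) (hz : ∀ i, dotVec G z i ≤ 0)
    (hmin : ∀ b : Fin r → ℕ, b ≠ 0 → (∀ i, dotVec G b i ≤ 0) → ∀ i, z i ≤ b i) :
    (∀ i, 1 ≤ z i) ∧
      ∀ b : Fin r → ℕ, b ≠ 0 → (∀ i, b i ≤ z i) → b ≠ z → ∃ i, b i < z i ∧ 0 < dotVec G b i := by
  classical
  refine ⟨fun i₀ => ?_, fun b hb0 hb hne => ?_⟩
  · by_contra hi₀
    let S : Finset (Fin r) := Finset.univ.filter fun i => z i = 0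
    obtain ⟨i, hi, j, hj, hij⟩ := hconn S ⟨i₀, by simp [S]; omega⟩ (by
      obtain ⟨j, hj⟩ : ∃ j, z j ≠ 0 := by
        by_contra h; push Not at h; exact hz0 (funext h)
      exact ⟨j, by simp [S, hj]⟩)
    simp [S] at hi hj
    have hne : i ≠ j := fun h => hj (h ▸ hi)
    have h1 : 0 < G j i := lt_of_le_of_ne (hoff j i hne.symm) (fun h => hij ((hsym i j).trans h.symm))
    have h2 : (0 : ℤ) < dotVec G z i := by
      refine Finset.sum_pos' (fun l _ => ?_) ⟨j, Finset.mem_univ _, mul_pos (by exact_mod_cast Nat.pos_of_ne_zero hj) h1⟩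
      by_cases hl : l = i
      · subst hl; simp [hi]
      · exact mul_nonneg (Nat.cast_nonneg _) (hoff l i hl)
    exact absurd (hz i) (not_le.2 h2)
  · obtain ⟨i, hi⟩ : ∃ i, 0 < dotVec G b i := by
      by_contra h
      push Not at h
      exact hne (funext fun i => le_antisymm (hb i) (hmin b hb0 h i))
    refine ⟨i, lt_of_le_of_ne (hb i) fun he => ?_, hi⟩
    refine absurd (hz i) (not_le.2 (hi.trans_le ?_))
    refine Finset.sum_le_sum fun l _ => ?_
    by_cases hl : l = i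
    · subst hl; rw [he]
    · exact mul_le_mul_of_nonneg_right (by exact_mod_cast hb l) (hoff l i hl)

end Groth.Agent.Surf15
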