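import Groth.Agent.Surf15.Basic
import Groth.Agent.Crv77.Split2
import Groth.Agent.Curves2.Ample.ClosedPush
import Groth.Agent.VarCurve.AlgClosedConst
import Groth.Agent.ModPic.IdealMul
import Groth.Agent.Var76.FibreBound

/-! Invertible modules restricted to an integral curve of a surface. -/

set_option autoImplicit false
set_option backward.isDefEq.respectTransparency.types false
set_option linter.style.haveILetI false
universe u

open CategoryTheory CategoryTheory.Limits AlgebraicGeometry TopologicalSpace

noncomputable section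

namespace Groth.Agent.Surf15

variable {k : Type u} [Field k] {X : Scheme.{u}} [X.Over (Spec (CommRingCat.of k))]
  [IsProper (X ↘ (Spec (CommRingCat.of k)))]

variable (k) in
/-- The degree of `L` on the closed subscheme of `C`. -/
abbrev deg (C : X.IdealSheafData) (L : X.Modules) : ℤ :=
  Curv2.euler k X (CohB1.tensorMod (ClSub.quotMod C) L) - Curv2.euler k X (ClSub.quotMod C)

/-- A closed subscheme of a proper scheme, over the base field. -/
abbrev subOver (C : X.IdealSheafData) : C.subscheme.Over (Spec (CommRingCat.of k)) :=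
  ⟨C.subschemeι ≫ (X ↘ (Spec (CommRingCat.of k)))⟩

theorem deg_eq (C : X.IdealSheafData) {L : X.Modules} (hL : PicF.IsInvertible L) :
    deg k C L = @Curv2.deg k _ C.subscheme (subOver C) ((Scheme.Modules.pullback C.subschemeι).obj L) 1 := by
  haveI := Crv77.isNoetherian_of_proper k X
  letI := subOver (k := k) C
  haveI : IsLocallyNoetherian C.subscheme := LocallyOfFiniteType.isLocallyNoetherian C.subschemeι
  exact (Curves2.Ample.deg_pullback_eq k C.subschemeι rfl hL).symm

/-- Cohomology of `O_C ⊗ L` is computed on `C`. -/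
theorem nonempty_hh (C : X.IdealSheafData) {L : X.Modules} (hL : PicF.IsInvertible L) (i : ℕ) :
    letI := subOver (k := k) C
    Nonempty (Coh.HH X (CohB1.tensorMod (ClSub.quotMod C) L) i ≃ₗ[k]
      Coh.HH C.subscheme ((Scheme.Modules.pullback C.subschemeι).obj L) i) := by
  haveI := Crv77.isNoetherian_of_proper k X
  letI := subOver (k := k) C
  haveI : IsLocallyNoetherian C.subscheme := LocallyOfFiniteType.isLocallyNoetherian C.subschemeι
  obtain ⟨e⟩ := Curves2.Ample.nonempty_push_unit_tensor C.subschemeι hL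
  have hc := Crv77.isCoh_of_isInvertible (Amp73.isInvertible_pullback C.subschemeι hL)
  haveI := hc.1
  obtain ⟨e'⟩ := Var76.nonempty_hhLin_push C.subschemeι (rfl : _ = C.subscheme ↘ (Spec (CommRingCat.of k)))
    ((Scheme.Modules.pullback C.subschemeι).obj L) (QC70.isCoh_pushforward C.subschemeι _ hc).1 i
  exact ⟨(Crv77.hEquiv k e i).trans e'⟩

/-- Cohomology of `O_C` is computed on `C`. -/
theorem nonempty_hh_unit (C : X.IdealSheafData) (i : ℕ) :
    letI := subOver (k := k) C
    Nonempty (Coh.HH X (ClSub.quotMod C) i ≃ₗ[k] Coh.HH C.subscheme (Coh.structureModule C.subscheme) i) := by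
  haveI := Crv77.isNoetherian_of_proper k X
  letI := subOver (k := k) C
  haveI : IsLocallyNoetherian C.subscheme := LocallyOfFiniteType.isLocallyNoetherian C.subschemeι
  haveI := (Crv77.isCoh_structureModule (X := C.subscheme)).1
  exact Var76.nonempty_hhLin_push C.subschemeι (rfl : _ = C.subscheme ↘ (Spec (CommRingCat.of k)))
    (Coh.structureModule C.subscheme) (Crv77.isCoh_quotMod C).1 i

omit [X.Over (Spec (CommRingCat.of k))] [IsProper (X ↘ (Spec (CommRingCat.of k)))] in
theorem IsCurve.dim_subscheme {C : X.IdealSheafData} (hC : IsCurve C) :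
    topologicalKrullDim C.subscheme = 1 := by
  rw [IsHomeomorph.topologicalKrullDim_eq _
    C.subschemeι.isClosedEmbedding.isEmbedding.toHomeomorph.isHomeomorph, C.range_subschemeι, hC.dim]

/-- The package used on each curve. -/
theorem IsCurve.curveCoh {C : X.IdealSheafData} (hC : IsCurve C) :
    letI := subOver (k := k) C
    Crv77.CurveCoh k C.subscheme := by
  letI := subOver (k := k) C
  haveI : IsProper (C.subscheme ↘ (Spec (CommRingCat.of k))) :=
    inferInstanceAs (IsProper (C.subschemeι ≫ (X ↘ (Spec (CommRingCat.of k)))))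
  exact Crv77.curveCoh_of_finite k C.subscheme hC.dim_subscheme.le
    fun M hM n => Serre71.finite_hh_of_isProper k M hM n

section AlgClosed

variable [IsAlgClosed k]

theorem IsCurve.h0 {C : X.IdealSheafData} (hC : IsCurve C) :
    letI := subOver (k := k) C
    Module.finrank k (Coh.HH C.subscheme (Coh.structureModule C.subscheme) 0) = 1 := by
  letI := subOver (k := k) C
  haveI : IsProper (C.subscheme ↘ (Spec (CommRingCat.of k))) :=
    inferInstanceAs (IsProper (C.subschemeι ≫ (X ↘ (Spec (CommRingCat.of k)))))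
  haveI := hC.integral
  exact VarCurve.finrank_h0_eq_one k C.subscheme

/-- `χ(O_C) = 1 - h¹(O_C)`. -/
theorem IsCurve.euler_eq {C : X.IdealSheafData} (hC : IsCurve C) :
    Curv2.euler k X (ClSub.quotMod C) =
      1 - (Module.finrank k (Coh.HH X (ClSub.quotMod C) 1) : ℤ) := by
  haveI := Crv77.isNoetherian_of_proper k X
  letI := subOver (k := k) C
  haveI : IsLocallyNoetherian C.subscheme := LocallyOfFiniteType.isLocallyNoetherian C.subschemeι
  obtain ⟨e⟩ := nonempty_hh_unit (k := k) C 1
  rw [e.finrank_eq]
  have h := Curves2.Ample.euler_push k C.subschemeι (rfl : _ = C.subscheme ↘ (Spec (CommRingCat.of k)))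
    _ Crv77.isCoh_structureModule
  change Curv2.euler k X (ClSub.quotMod C) = _ at h
  rw [h, (hC.curveCoh (k := k)).euler_eq Crv77.isCoh_structureModule]
  simp only [Crv77.h, hC.h0, Nat.cast_one]

theorem IsCurve.euler_le_one {C : X.IdealSheafData} (hC : IsCurve C) :
    Curv2.euler k X (ClSub.quotMod C) ≤ 1 := by
  rw [hC.euler_eq]; omega

/-- On a curve of genus zero, degree at least `-1` kills `H¹`. -/
theorem IsCurve.h1_trivial {C : X.IdealSheafData} (hC : IsCurve C) {L : X.Modules} (hL : PicF.IsInvertible L)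
    (hg : 1 ≤ Curv2.euler k X (ClSub.quotMod C)) (hd : -1 ≤ deg k C L) :
    Subsingleton (Coh.HH X (CohB1.tensorMod (ClSub.quotMod C) L) 1) := by
  haveI := Crv77.isNoetherian_of_proper k X
  letI := subOver (k := k) C
  haveI : IsProper (C.subscheme ↘ (Spec (CommRingCat.of k))) :=
    inferInstanceAs (IsProper (C.subschemeι ≫ (X ↘ (Spec (CommRingCat.of k)))))
  haveI := Crv77.isNoetherian_of_proper k C.subscheme
  haveI := hC.integral
  obtain ⟨e⟩ := nonempty_hh (k := k) C hL 1
  refine e.toEquiv.subsingleton_congr.2 ?_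
  by_contra hns
  rw [not_subsingleton_iff_nontrivial] at hns
  have hLC := Amp73.isInvertible_pullback C.subschemeι hL
  open scoped Groth.Agent.FGA29 in
  obtain ⟨i⟩ : Nonempty (CohB1.tensorMod (ClSub.idealMod (⊤ : C.subscheme.IdealSheafData))
      ((Scheme.Modules.pullback C.subschemeι).obj L) ≅ (Scheme.Modules.pullback C.subschemeι).obj L) :=
    FGA29.nonempty_iso_of_cl (by rw [FGA29.cl_tensor, ModPic.cl_idealMod_top, one_mul])
  haveI := (Crv77.hEquiv k i 1).toEquiv.nontrivial
  have h := (hC.curveCoh (k := k)).deg_le_of_h1 hC.dim_subscheme hC.h0 hLC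
    (Z := (⊤ : C.subscheme.IdealSheafData)) (by
      rw [Scheme.IdealSheafData.support_top]
      exact Var76.FibreBound.dim_le_of_forall (C.subscheme ↘ (Spec (CommRingCat.of k)))
        isClosed_empty fun x hx => hx.elim) inferInstance
  have h0 : Crv77.h (k := k) 0 (ClSub.quotMod (⊤ : C.subscheme.IdealSheafData)) = 0 := by
    have hz : ∀ m : Γ(ClSub.quotMod (⊤ : C.subscheme.IdealSheafData), ⊤), m = 0 := fun m =>
      (Crv77.suppIn_quotMod _).section_eq_zero (fun x _ hx => by
        rw [Scheme.IdealSheafData.support_top] at hx; exact hx.elim) m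
    haveI : Subsingleton (Coh.HH C.subscheme (ClSub.quotMod (⊤ : C.subscheme.IdealSheafData)) 0) :=
      (Crv77.sec (ClSub.quotMod (⊤ : C.subscheme.IdealSheafData))).toEquiv.subsingleton_congr.2
        ⟨fun a b => (hz a).trans (hz b).symm⟩
    simp [Crv77.h, Module.finrank_zero_of_subsingleton]
  have hg' : (Curv2.genus k C.subscheme : ℤ) = 0 := by
    obtain ⟨e1⟩ := nonempty_hh_unit (k := k) C 1
    have := hC.euler_eq (k := k)
    rw [e1.finrank_eq] at this
    simp only [Curv2.genus]
    omega
  rw [← deg_eq C hL, h0, hg'] at h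
  linarith

/-- Negative degree kills sections. -/
theorem IsCurve.h0_trivial {C : X.IdealSheafData} (hC : IsCurve C) {L : X.Modules} (hL : PicF.IsInvertible L)
    (hd : deg k C L < 0) : Subsingleton (Coh.HH X (CohB1.tensorMod (ClSub.quotMod C) L) 0) := by
  letI := subOver (k := k) C
  haveI : IsProper (C.subscheme ↘ (Spec (CommRingCat.of k))) :=
    inferInstanceAs (IsProper (C.subschemeι ≫ (X ↘ (Spec (CommRingCat.of k)))))
  haveI := Crv77.isNoetherian_of_proper k C.subscheme
  haveI := hC.integral
  obtain ⟨e⟩ := nonempty_hh (k := k) C hL 0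
  refine e.toEquiv.subsingleton_congr.2 ?_
  by_contra hns
  rw [not_subsingleton_iff_nontrivial] at hns
  obtain ⟨s, S, -, -, -, -, -, hdeg, -⟩ :=
    (hC.curveCoh (k := k)).exists_section_seq hC.dim_subscheme.le (Amp73.isInvertible_pullback C.subschemeι hL) hns
  rw [← deg_eq C hL] at hdeg
  simp only [Crv77.h] at hdeg
  omega

/-- Nonpositive degree: at most one section, and with a nonzero one the restriction is trivial. -/
theorem IsCurve.h0_le_one {C : X.IdealSheafData} (hC : IsCurve C) {L : X.Modules} (hL : PicF.IsInvertible L)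
    (hd : deg k C L ≤ 0) :
    Module.finrank k (Coh.HH X (CohB1.tensorMod (ClSub.quotMod C) L) 0) ≤ 1 ∧
      (Nontrivial (Coh.HH X (CohB1.tensorMod (ClSub.quotMod C) L) 0) →
        Nonempty ((Scheme.Modules.pullback C.subschemeι).obj L ≅ Coh.structureModule C.subscheme)) := by
  letI := subOver (k := k) C
  haveI : IsProper (C.subscheme ↘ (Spec (CommRingCat.of k))) :=
    inferInstanceAs (IsProper (C.subschemeι ≫ (X ↘ (Spec (CommRingCat.of k)))))
  haveI := Crv77.isNoetherian_of_proper k C.subscheme
  haveI := hC.integral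
  obtain ⟨e⟩ := nonempty_hh (k := k) C hL 0
  have key : Nontrivial (Coh.HH X (CohB1.tensorMod (ClSub.quotMod C) L) 0) →
      Nonempty ((Scheme.Modules.pullback C.subschemeι).obj L ≅ Coh.structureModule C.subscheme) := fun hn => by
    have h0 : deg k C L = 0 := by
      refine le_antisymm hd (not_lt.1 fun hlt => ?_)
      exact not_subsingleton_iff_nontrivial.2 hn (hC.h0_trivial hL hlt)
    refine (hC.curveCoh (k := k)).nonempty_iso_of_deg_zero hC.dim_subscheme.le
      (Amp73.isInvertible_pullback C.subschemeι hL) (e.toEquiv.symm.nontrivial) ?_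
    rw [← deg_eq C hL, h0]
  refine ⟨?_, key⟩
  rcases subsingleton_or_nontrivial (Coh.HH X (CohB1.tensorMod (ClSub.quotMod C) L) 0) with hs | hn
  · rw [Module.finrank_zero_of_subsingleton]; exact Nat.zero_le 1
  · obtain ⟨i⟩ := key hn
    rw [e.finrank_eq, (Crv77.hEquiv k i 0).finrank_eq, hC.h0]

end AlgClosed

end Groth.Agent.Surf15
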