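import Groth.Agent.ModPic.IdealMul
import Groth.Agent.Var76.RegMaps
import Groth.Agent.FGA29.IntNumBasic
import Mathlib.CategoryTheory.Abelian.DiagramLemmas.KernelCokernelComp

/-! The exact sequence of a sum of two effective divisors (adapted from `ModPic.Chi`). -/

set_option autoImplicit false
set_option backward.isDefEq.respectTransparency.types false
set_option linter.style.haveILetI false

noncomputable section

universe u

open CategoryTheory CategoryTheory.Limits AlgebraicGeometry TopologicalSpace Opposite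
open Groth.Agent Groth.Agent.Var76.LineBundle
open scoped nonZeroDivisors

namespace Groth.Agent.Surf15

open Groth.Agent.ModPic

open scoped Groth.Agent.FGA29

section Seq

variable {X : Scheme.{u}}

/-- The cokernel of a mono in a short exact sequence. -/
def cokerIso {S : ShortComplex X.Modules} (hS : S.ShortExact) : cokernel S.f ≅ S.X₃ :=
  (cokernelIsCokernel S.f).coconePointUniqueUpToIso hS.gIsCokernel

theorem exists_idealInc_factor {I J : X.IdealSheafData} (hI : BlowUp.IsEffCartierIdeal I)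
    (hJ : BlowUp.IsEffCartierIdeal J) :
    ∃ e : CohB1.tensorMod (ClSub.idealMod I) (ClSub.idealMod J) ≅ ClSub.idealMod (I * J),
      e.hom ≫ ClSub.idealModι (I * J) = Var76.Reg.idealInc I (ClSub.idealMod J) ≫ ClSub.idealModι J := by
  let φ := Var76.Reg.idealInc I (ClSub.idealMod J) ≫ ClSub.idealModι J
  haveI : Mono (Var76.Reg.idealInc I (ClSub.idealMod J)) :=
    Var76.Reg.mono_idealInc I ((Curves2.isInvertible_idealMod_iff J).2 hJ)
  haveI : Mono φ := mono_comp _ _
  let ψ := ClSub.idealModι (I * J)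
  have hfr : ∀ x : X, ∃ (U : X.Opens) (a : Γ(CohB1.tensorMod (ClSub.idealMod I) (ClSub.idealMod J), U))
      (b : Γ(ClSub.idealMod (I * J), U)), x ∈ U ∧ IsFrame _ U a ∧ IsFrame _ U b ∧ φ.app U a = ψ.app U b := fun x => by
    obtain ⟨W₀, g₀, hxW₀, -, hg₀, hJ₀⟩ := exists_affine_span hJ (U := ⊤) x trivial
    obtain ⟨W, f, hxW, hle, hf, hIW⟩ := exists_affine_span hI x hxW₀
    let g := X.presheaf.map (homOfLE hle).op g₀
    have hg : g ∈ Γ(X, W.1)⁰ := Div89.res_mem_nonZeroDivisors hle hg₀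
    have hJW : J.ideal W = Ideal.span {g} := Div89.ideal_res_span hle hJ₀
    have hIJ : (I * J).ideal W = Ideal.span {f * g} := by
      rw [Scheme.IdealSheafData.ideal_mul, Pi.mul_apply, hIW, hJW, Ideal.span_singleton_mul_span_singleton]
    obtain ⟨a, ha⟩ := Curves2.exists_idealSect_of_mem I W (hIW ▸ Ideal.mem_span_singleton_self f)
    obtain ⟨b, hb⟩ := Curves2.exists_idealSect_of_mem J W (hJW ▸ Ideal.mem_span_singleton_self g)
    obtain ⟨c, hc⟩ := Curves2.exists_idealSect_of_mem (I * J) W (hIJ ▸ Ideal.mem_span_singleton_self (f * g))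
    refine ⟨W.1, Amp73.tm _ _ a b, c, hxW,
      Amp73.isFrame_tm (Curves2.isFrame_of_span I W hf hIW a ha) (Curves2.isFrame_of_span J W hg hJW b hb),
      Curves2.isFrame_of_span (I * J) W (mul_mem hf hg) hIJ c hc, ?_⟩
    show (ClSub.idealModι J).app W.1 ((Var76.Reg.idealInc I _).app W.1 (Amp73.tm _ _ a b)) = _
    rw [Var76.Reg.idealInc_tm, ha, Scheme.Modules.Hom.app_smul]
    show f * OmegaSh.idealSect J W.1 b = OmegaSh.idealSect (I * J) W.1 c
    rw [hb, hc]
  have hA : φ ≫ cokernel.π ψ = 0 := eq_zero_of_frames _ fun x => by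
    obtain ⟨U, a, b, hx, ha, -, hab⟩ := hfr x
    refine ⟨U, a, hx, ha, ?_⟩
    show (cokernel.π ψ).app U (φ.app U a) = 0
    rw [hab]
    exact congr($(cokernel.condition ψ).app U b)
  haveI : IsIso (Abelian.monoLift ψ φ hA) := Amp73.isIso_of_frames _ fun x => by
    obtain ⟨U, a, b, hx, ha, hb, hab⟩ := hfr x
    refine ⟨U, a, hx, ha, ?_⟩
    have e : (Abelian.monoLift ψ φ hA).app U a = b := QC70.app_injective_of_mono ψ U (by
      rw [← hab]
      exact congr($(Abelian.monoLift_comp ψ φ hA).app U a))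
    rw [e]; exact hb
  exact ⟨asIso (Abelian.monoLift ψ φ hA), Abelian.monoLift_comp ψ φ hA⟩

/-- `0 → O_I ⊗ O(-J) → O_{I J} → O_J → 0`. -/
theorem exists_seq_mul {I J : X.IdealSheafData} (hI : BlowUp.IsEffCartierIdeal I) (hJ : BlowUp.IsEffCartierIdeal J) :
    ∃ T : ShortComplex X.Modules, T.ShortExact ∧
      Nonempty (T.X₁ ≅ CohB1.tensorMod (ClSub.quotMod I) (ClSub.idealMod J)) ∧
      Nonempty (T.X₂ ≅ ClSub.quotMod (I * J)) ∧ Nonempty (T.X₃ ≅ ClSub.quotMod J) := by
  obtain ⟨e, he⟩ := exists_idealInc_factor hI hJ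
  have hJi := (Curves2.isInvertible_idealMod_iff J).2 hJ
  let α := Var76.Reg.idealInc I (ClSub.idealMod J)
  let β := ClSub.idealModι J
  haveI : Mono β := mono_idealModι J
  let S := kernelCokernelCompSequence.snakeInput α β
  haveI : Epi S.L₂.g := inferInstanceAs (Epi (biprod.snd : ClSub.idealMod J ⊞ Coh.structureModule X ⟶ _))
  haveI : Epi S.L₃.g := S.epi_L₃_g
  haveI : Mono S.L₃.f := by
    refine S.L₂'_exact.mono_g (IsZero.eq_of_src ?_ _ _)
    exact isZero_kernel_of_mono β
  obtain ⟨w, hT⟩ := Var76.Reg.shortExact_whiskR hJi (Crv77.idealSeq_shortExact I)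
  refine ⟨S.L₃, { exact := S.L₃_exact }, ⟨?_⟩, ⟨?_⟩, ⟨cokerIso (Crv77.idealSeq_shortExact J)⟩⟩
  · show cokernel (Var76.Reg.whiskR (ClSub.idealModι I) (ClSub.idealMod J) ≫ (EGA73.tensUnitLeft _).hom) ≅ _
    exact cokernelCompIsIso _ _ ≪≫ cokerIso hT
  · show cokernel (α ≫ β) ≅ _
    exact cokernelIsoOfEq he.symm ≪≫ cokernelEpiComp _ _ ≪≫ cokerIso (Crv77.idealSeq_shortExact (I * J))

end Seq

end Groth.Agent.Surf15
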