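import Groth.Agent.Surf15.Pos
import Groth.Agent.Surf15.Seq
import Groth.Agent.Div89.EffInside
import Groth.Agent.Div89.DivProd

/-! Effective divisors as combinations of curves. -/

set_option autoImplicit false
set_option backward.isDefEq.respectTransparency.types false
set_option linter.style.haveILetI false
universe u

open CategoryTheory CategoryTheory.Limits AlgebraicGeometry TopologicalSpace
open Groth.Agent.Div89

noncomputable section

namespace Groth.Agent.Surf15

variable {k : Type u} [Field k] {X : Scheme.{u}} [X.Over (Spec (CommRingCat.of k))]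
  [IsProper (X ↘ (Spec (CommRingCat.of k)))] [IsIntegral X]
  (hdim : topologicalKrullDim X = 2) (hreg : ∀ x : X, IsRegularLocalRing (X.presheaf.stalk x))

include k hdim hreg

theorem isEffCartier_prod_pow {r : ℕ} {C : Fin r → X.IdealSheafData} (hC : ∀ i, IsCurve (C i))
    (a : Fin r → ℕ) : BlowUp.IsEffCartierIdeal (∏ i, C i ^ a i) :=
  DivProd.isEffCartier_prod _ _ fun i _ => ModPic.isEffCartier_pow ((hC i).isEffCartier (k := k) hdim hreg) _

/-- An effective divisor supported on given curves is a combination of them. -/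
theorem exists_eq_prod {r : ℕ} {C : Fin r → X.IdealSheafData} (hC : ∀ i, IsCurve (C i))
    {Z : X.IdealSheafData} (hZ : BlowUp.IsEffCartierIdeal Z)
    (hsupp : (Z.support : Set X) ⊆ ⋃ i, ((C i).support : Set X)) :
    ∃ a : Fin r → ℕ, Z = ∏ i, C i ^ a i := by
  classical
  haveI := Crv77.isNoetherian_of_proper k X
  let D : ULift.{u} (Fin r) → X.IdealSheafData := fun i => C i.down
  obtain ⟨a, hle, U, hU, hcod⟩ := exists_effCartier_in_closed Z D
    (fun i => (hC i.down).isEffCartier (k := k) hdim hreg)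
    (fun i => (hC i.down).integral) ∅ isClosed_empty (fun z hz => hz.elim) fun x hx => by
      obtain ⟨i, hi⟩ := Set.mem_iUnion.1 (hsupp hx)
      exact Or.inr (Set.mem_iUnion.2 ⟨⟨i⟩, hi⟩)
  have hprod : a.prod (fun i n => D i ^ n) = ∏ j, C j ^ a ⟨j⟩ := by
    rw [Finsupp.prod_fintype _ _ fun i => pow_zero _]
    exact Fintype.prod_equiv Equiv.ulift _ _ fun i => rfl
  rw [hprod] at hle hU
  exact ⟨fun j => a ⟨j⟩, DivProd.eq_of_le_of_eq_on hZ
    (isEffCartier_prod_pow (k := k) hdim hreg hC _) hle hU hcod⟩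

omit hdim hreg [IsIntegral X] in
theorem le_curve_iff {Z D : X.IdealSheafData} (hD : IsCurve D) :
    Z ≤ D ↔ (D.support : Set X) ⊆ (Z.support : Set X) := by
  refine ⟨fun h => Scheme.IdealSheafData.support_antitone h, fun h => ?_⟩
  haveI := hD.integral
  rw [← eq_vanishingIdeal (C := D)]
  exact Scheme.IdealSheafData.le_support_iff_le_vanishingIdeal.1 h

/-- The curves in the support of an effective divisor. -/
theorem exists_curves {Z : X.IdealSheafData} (hZ : BlowUp.IsEffCartierIdeal Z) :
    ∃ (r : ℕ) (C : Fin r → X.IdealSheafData), Function.Injective C ∧ (∀ i, IsCurve (C i) ∧ Z ≤ C i) ∧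
      (Z.support : Set X) ⊆ ⋃ i, ((C i).support : Set X) := by
  classical
  haveI := Crv77.isNoetherian_of_proper k X
  let S : Set X := Z.support
  have hfin : (irreducibleComponents S).Finite := NoetherianSpace.finite_irreducibleComponents
  haveI := hfin.fintype
  haveI : QuasiSober S := Z.support.isClosed.isClosedEmbedding_subtypeVal.quasiSober
  choose η hη using fun T : irreducibleComponents S =>
    QuasiSober.sober T.2.1 (isClosed_of_mem_irreducibleComponents T.1 T.2)
  let e := (Fintype.equivFin (irreducibleComponents S)).symm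
  let P : Fin (Fintype.card (irreducibleComponents S)) → X := fun i => (η (e i)).1
  have hmax : ∀ i, ∀ y ∈ S, y ⤳ P i → y = P i := by
    intro i y hy hyz
    have h1 : (⟨y, hy⟩ : S) ⤳ η (e i) := Topology.IsInducing.subtypeVal.specializes_iff.1 hyz
    have hsub : (e i).1 ⊆ closure {(⟨y, hy⟩ : S)} := by
      rw [← (hη (e i)).def]; exact h1.closure_subset
    have h2 : η (e i) ⤳ ⟨y, hy⟩ :=
      (hη (e i)).specializes ((e i).2.2 isIrreducible_singleton.closure hsub (subset_closure rfl))
    exact congrArg Subtype.val (h1.antisymm h2).eq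
  have hclsub : ∀ i, closure ({P i} : Set X) ⊆ S := fun i =>
    Z.support.isClosed.closure_subset_iff.2 (Set.singleton_subset_iff.2 (η (e i)).2)
  let C : Fin (Fintype.card (irreducibleComponents S)) → X.IdealSheafData := fun i =>
    Scheme.IdealSheafData.vanishingIdeal ⟨closure {P i}, isClosed_closure⟩
  have hsupp : ∀ i, ((C i).support : Set X) = closure {P i} := fun i => by
    rw [Scheme.IdealSheafData.coe_support_vanishingIdeal]; rfl
  have hcurve : ∀ i, IsCurve (C i) := fun i => by
    refine ⟨?_, ?_⟩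
    · exact Snapper75.isIntegral_ptScheme (P i)
    · rw [hsupp, WC97.topologicalKrullDim_closure (X ↘ (Spec (CommRingCat.of k)))]
      have h1 := dim_stalk_eq_one_of_effCartier hZ (η (e i)).2 (hmax i)
      have h2 := dim_stalk_add (k := k) hdim (P i)
      rw [h1] at h2
      rw [tdeg_eq_one_of_add h2]
      rfl
  refine ⟨_, C, fun i j hij => ?_, fun i => ⟨hcurve i, (le_curve_iff (k := k) (hcurve i)).2 ?_⟩, ?_⟩
  · have h : closure ({P i} : Set X) = closure {P j} := by rw [← hsupp, ← hsupp, hij]
    have hP : P i = P j := (inseparable_iff_closure_eq.2 h).eq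
    refine e.injective (Subtype.ext ?_)
    rw [← (hη (e i)).def, ← (hη (e j)).def, Subtype.ext hP]
  · rw [hsupp]; exact hclsub i
  · intro x hx
    obtain ⟨i, hi⟩ := e.surjective ⟨irreducibleComponent (⟨x, hx⟩ : S),
      irreducibleComponent_mem_irreducibleComponents _⟩
    refine Set.mem_iUnion.2 ⟨i, ?_⟩
    rw [hsupp, ← specializes_iff_mem_closure]
    have h2 : η (e i) ⤳ (⟨x, hx⟩ : S) := (hη (e i)).specializes (by rw [hi]; exact mem_irreducibleComponent)
    exact h2.map continuous_subtype_val

/-- Exponents are recovered at the generic points. -/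
theorem stalkIdeal_prod_pow {r : ℕ} {C : Fin r → X.IdealSheafData} (hC : ∀ i, IsCurve (C i))
    (hinj : Function.Injective C) (a : Fin r → ℕ) (i : Fin r) {η : X}
    (hη : IsGenericPoint η ((C i).support : Set X)) :
    stalkIdeal (∏ j, C j ^ a j) η = IsLocalRing.maximalIdeal (X.presheaf.stalk η) ^ a i := by
  haveI := Crv77.isNoetherian_of_proper k X
  haveI := (hC i).integral
  rw [stalkIdeal_prod, Finset.prod_eq_single i (fun j _ hj => ?_) (by simp), stalkIdeal_pow,
    stalkIdeal_eq_maximalIdeal_of_genericPoint _ hη]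
  rw [stalkIdeal_pow, (notMem_support_iff_stalkIdeal _ _).1 fun h => ?_, ← Ideal.one_eq_top, one_pow]
  refine (hC i).not_subset (k := k) (hC j) (fun e => hj (hinj e).symm) ?_
  rw [← hη.def]
  exact (C j).support.isClosed.closure_subset_iff.2 (Set.singleton_subset_iff.2 h)

/-- The order of combinations of curves. -/
theorem prod_pow_le_iff {r : ℕ} {C : Fin r → X.IdealSheafData} (hC : ∀ i, IsCurve (C i))
    (hinj : Function.Injective C) (a b : Fin r → ℕ) :
    (∏ i, C i ^ a i) ≤ ∏ i, C i ^ b i ↔ ∀ i, b i ≤ a i := by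
  haveI := Crv77.isNoetherian_of_proper k X
  refine ⟨fun h i => ?_, fun h => ?_⟩
  · obtain ⟨η, hη⟩ := (hC i).exists_genericPoint
    have h1 := (le_iff_stalkIdeal _ _).1 h η
    rw [stalkIdeal_prod_pow (k := k) hdim hreg hC hinj a i hη,
      stalkIdeal_prod_pow (k := k) hdim hreg hC hinj b i hη] at h1
    haveI := hreg η
    haveI : IsDomain (X.presheaf.stalk η) := CAlg1.isDomain_regular _
    obtain ⟨g, hg, hgI⟩ := exists_stalk_generator ((hC i).isEffCartier (k := k) hdim hreg) η
    haveI := (hC i).integral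
    obtain ⟨hd, hdvr⟩ := isDiscreteValuationRing_of_principal_nzd _ hg
      ((stalkIdeal_eq_maximalIdeal_of_genericPoint _ hη).symm.trans hgI)
    by_contra hlt
    have h2 := Ideal.pow_right_strictAnti (IsLocalRing.maximalIdeal (X.presheaf.stalk η))
      (IsDiscreteValuationRing.not_a_field _) (IsLocalRing.maximalIdeal.isMaximal _).ne_top (not_le.1 hlt)
    exact absurd h1 (not_le_of_gt h2)
  · have e : (∏ i, C i ^ a i) = (∏ i, C i ^ b i) * ∏ i, C i ^ (a i - b i) := by
      rw [← Finset.prod_mul_distrib]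
      exact Finset.prod_congr rfl fun i _ => by rw [← pow_add, Nat.add_sub_cancel' (h i)]
    rw [e]
    exact SurfInt93.mul_le_left' _ _

omit hdim hreg [IsIntegral X] in
theorem prod_pow_single {r : ℕ} (C : Fin r → X.IdealSheafData) (i : Fin r) (n : ℕ) :
    ∏ j, C j ^ (Pi.single i n : Fin r → ℕ) j = C i ^ n := by
  rw [Finset.prod_eq_single i (fun j _ hj => by rw [Pi.single_eq_of_ne hj, pow_zero]) (by simp),
    Pi.single_eq_same]

omit hdim hreg [IsIntegral X] in
theorem prod_pow_add_single {r : ℕ} (C : Fin r → X.IdealSheafData) (a : Fin r → ℕ) (i : Fin r) :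
    ∏ j, C j ^ (a + Pi.single i 1 : Fin r → ℕ) j = (∏ j, C j ^ a j) * C i := by
  simp only [Pi.add_apply, pow_add]
  rw [Finset.prod_mul_distrib, prod_pow_single (k := k) C i 1, pow_one]

omit hdim hreg [IsIntegral X] in
theorem prod_pow_eq_top {r : ℕ} (C : Fin r → X.IdealSheafData) :
    ∏ j, C j ^ (0 : Fin r → ℕ) j = ⊤ := by
  simp only [Pi.zero_apply, pow_zero, Finset.prod_const_one]
  exact Scheme.IdealSheafData.one_eq_top

theorem prod_pow_ne_top {r : ℕ} {C : Fin r → X.IdealSheafData} (hC : ∀ i, IsCurve (C i))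
    (hinj : Function.Injective C) {a : Fin r → ℕ} (ha : a ≠ 0) : ∏ i, C i ^ a i ≠ ⊤ := by
  intro h
  refine ha (funext fun i => Nat.le_zero.1 ((prod_pow_le_iff (k := k) hdim hreg hC hinj 0 a).1 ?_ i))
  rw [h]
  exact le_top

end Groth.Agent.Surf15
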