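import Groth.Agent.Surf15.Decomp

/-! Euler characteristics of combinations of curves. -/

set_option autoImplicit false
set_option backward.isDefEq.respectTransparency.types false
set_option linter.style.haveILetI false
universe u

open CategoryTheory CategoryTheory.Limits AlgebraicGeometry TopologicalSpace

noncomputable section

namespace Groth.Agent.Surf15

variable {k : Type u} [Field k] {X : Scheme.{u}} [X.Over (Spec (CommRingCat.of k))]
  [IsProper (X ↘ (Spec (CommRingCat.of k)))]

omit [X.Over (Spec (CommRingCat.of k))] [IsProper (X ↘ (Spec (CommRingCat.of k)))] in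
theorem isInvertible_idealMod {I : X.IdealSheafData} (hI : BlowUp.IsEffCartierIdeal I) :
    PicF.IsInvertible (ClSub.idealMod I) := (Curves2.isInvertible_idealMod_iff I).2 hI

theorem euler_quot_eq (I : X.IdealSheafData) :
    Curv2.euler k X (ClSub.quotMod I) =
      Curv2.euler k X (Coh.structureModule X) - Curv2.euler k X (ClSub.idealMod I) := by
  haveI := Crv77.isNoetherian_of_proper k X
  have h := Snapper75.euler_add k (Crv77.idealSeq_shortExact I) (Crv77.isCoh_idealMod I)
    Crv77.isCoh_structureModule (Crv77.isCoh_quotMod I)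
  change Curv2.euler k X (Coh.structureModule X) = Curv2.euler k X (ClSub.idealMod I) +
    Curv2.euler k X (ClSub.quotMod I) at h
  linarith

open scoped Groth.Agent.FGA29 in
/-- Adjunction without the canonical class: `χ(O_{A+B}) = χ(O_A) + χ(O_B) - A·B`. -/
theorem euler_quot_mul (hdim : topologicalKrullDim X = 2) {I J : X.IdealSheafData}
    (hI : BlowUp.IsEffCartierIdeal I) (hJ : BlowUp.IsEffCartierIdeal J) :
    Curv2.euler k X (ClSub.quotMod (I * J)) = Curv2.euler k X (ClSub.quotMod I) +
      Curv2.euler k X (ClSub.quotMod J) - inter k (ClSub.idealMod I) (ClSub.idealMod J) := by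
  rw [inter_eq hdim (isInvertible_idealMod hI) (isInvertible_idealMod hJ), euler_quot_eq, euler_quot_eq,
    euler_quot_eq, FGA29.euler_cl k (F := ClSub.idealMod (I * J))
      (G := CohB1.tensorMod (ClSub.idealMod I) (ClSub.idealMod J))
      (by rw [ModPic.cl_idealMod_mul hI hJ, FGA29.cl_tensor])]
  ring

open scoped Groth.Agent.FGA29 in
theorem inter_mul_left (hdim : topologicalKrullDim X = 2) {I J : X.IdealSheafData}
    (hI : BlowUp.IsEffCartierIdeal I) (hJ : BlowUp.IsEffCartierIdeal J) {M : X.Modules}
    (hM : PicF.IsInvertible M) :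
    inter k (ClSub.idealMod (I * J)) M = inter k (ClSub.idealMod I) M + inter k (ClSub.idealMod J) M := by
  rw [inter_congr hdim (isInvertible_idealMod (Div89.isEffCartier_mul hI hJ))
      (EGA73.isInvertible_tensorMod (isInvertible_idealMod hI) (isInvertible_idealMod hJ)) hM hM
      (by rw [ModPic.cl_idealMod_mul hI hJ, FGA29.cl_tensor]) rfl,
    inter_add_left hdim (isInvertible_idealMod hI) (isInvertible_idealMod hJ) hM]

open scoped Groth.Agent.FGA29 in
theorem inter_top_left (hdim : topologicalKrullDim X = 2) {M : X.Modules} (hM : PicF.IsInvertible M) :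
    inter k (ClSub.idealMod (⊤ : X.IdealSheafData)) M = 0 := by
  rw [inter_congr hdim (isInvertible_idealMod Div89.isEffCartier_top) EGA73.isInvertible_structureModule
    hM hM (by rw [ModPic.cl_idealMod_top, FGA29.cl_one]) rfl, inter_unit_left hdim hM]

omit [X.Over (Spec (CommRingCat.of k))] [IsProper (X ↘ (Spec (CommRingCat.of k)))] in
/-- Induction on exponent vectors. -/
theorem induction_vec {r : ℕ} {P : (Fin r → ℕ) → Prop} (h0 : P 0)
    (hs : ∀ a i, P a → P (a + Pi.single i 1)) (a : Fin r → ℕ) : P a := by
  induction hn : ∑ i, a i generalizing a with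
  | zero =>
    rw [show a = 0 from funext fun i => Finset.sum_eq_zero_iff.1 hn i (Finset.mem_univ i)]
    exact h0
  | succ n ih =>
    obtain ⟨i, -, hi⟩ := Finset.exists_ne_zero_of_sum_ne_zero (hn.symm ▸ (by omega) : ∑ i, a i ≠ 0)
    have e : a = (a - Pi.single i 1) + Pi.single i 1 := funext fun j => by
      by_cases hj : j = i
      · subst hj; simp only [Pi.add_apply, Pi.sub_apply, Pi.single_eq_same]; omega
      · simp only [Pi.add_apply, Pi.sub_apply, Pi.single_eq_of_ne hj]; omega
    rw [e]
    refine hs _ i (ih _ ?_)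
    have h1 : ∑ j, a j = ∑ j, (a - Pi.single i 1 : Fin r → ℕ) j + ∑ j, (Pi.single i 1 : Fin r → ℕ) j := by
      rw [← Finset.sum_add_distrib]
      exact Finset.sum_congr rfl fun j _ => congrFun e j
    rw [Finset.sum_pi_single' i 1, if_pos (Finset.mem_univ i)] at h1
    omega

section Combination

variable [IsIntegral X] (hdim : topologicalKrullDim X = 2)
  (hreg : ∀ x : X, IsRegularLocalRing (X.presheaf.stalk x)) {r : ℕ} {C : Fin r → X.IdealSheafData}
  (hC : ∀ i, IsCurve (C i))
include hdim hreg hC

theorem inter_prod (a : Fin r → ℕ) {M : X.Modules} (hM : PicF.IsInvertible M) :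
    inter k (ClSub.idealMod (∏ j, C j ^ a j)) M = ∑ j, (a j : ℤ) * inter k (ClSub.idealMod (C j)) M := by
  induction a using induction_vec with
  | h0 =>
    rw [prod_pow_eq_top (k := k), inter_top_left hdim hM]
    simp
  | hs a i ih =>
    rw [prod_pow_add_single (k := k), inter_mul_left hdim (isEffCartier_prod_pow (k := k) hdim hreg hC a)
      ((hC i).isEffCartier (k := k) hdim hreg) hM, ih]
    simp only [Pi.add_apply, Nat.cast_add, add_mul, Finset.sum_add_distrib]
    rw [Finset.sum_eq_single i (f := fun j => ((Pi.single i 1 : Fin r → ℕ) j : ℤ) * _)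
      (fun j _ hj => by rw [Pi.single_eq_of_ne hj, Nat.cast_zero, zero_mul]) (by simp),
      Pi.single_eq_same, Nat.cast_one, one_mul]

/-- The quadratic formula for the Euler characteristic of a combination of curves. -/
theorem two_euler_prod (a : Fin r → ℕ) :
    2 * Curv2.euler k X (ClSub.quotMod (∏ j, C j ^ a j)) =
      ∑ j, (a j : ℤ) * (2 * Curv2.euler k X (ClSub.quotMod (C j)) +
        inter k (ClSub.idealMod (C j)) (ClSub.idealMod (C j))) -
      ∑ i, ∑ j, (a i : ℤ) * (a j : ℤ) * inter k (ClSub.idealMod (C i)) (ClSub.idealMod (C j)) := by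
  induction a using induction_vec with
  | h0 =>
    rw [prod_pow_eq_top (k := k), euler_quot_eq,
      FGA29.euler_cl k (F := ClSub.idealMod (⊤ : X.IdealSheafData)) (G := Coh.structureModule X)
        ModPic.cl_idealMod_top]
    simp
  | hs a i ih =>
    have hi := isInvertible_idealMod ((hC i).isEffCartier (k := k) hdim hreg)
    rw [prod_pow_add_single (k := k), euler_quot_mul hdim (isEffCartier_prod_pow (k := k) hdim hreg hC a)
      ((hC i).isEffCartier (k := k) hdim hreg), inter_prod hdim hreg hC a hi]
    have hsym : ∀ j, inter k (ClSub.idealMod (C i)) (ClSub.idealMod (C j)) =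
        inter k (ClSub.idealMod (C j)) (ClSub.idealMod (C i)) := fun j =>
      inter_comm hdim hi (isInvertible_idealMod ((hC j).isEffCartier (k := k) hdim hreg))
    have hone : ∀ f : Fin r → ℤ, ∑ j, ((Pi.single i 1 : Fin r → ℕ) j : ℤ) * f j = f i := fun f => by
      rw [Finset.sum_eq_single i (fun j _ hj => by rw [Pi.single_eq_of_ne hj, Nat.cast_zero, zero_mul])
        (by simp), Pi.single_eq_same, Nat.cast_one, one_mul]
    simp only [Pi.add_apply, Nat.cast_add, add_mul, mul_assoc, Finset.sum_add_distrib, ← Finset.mul_sum,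
      hone, hsym, mul_add]
    simp only [mul_assoc, ← Finset.mul_sum, mul_add, Finset.sum_add_distrib] at ih
    linarith [ih]

end Combination

end Groth.Agent.Surf15
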