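import Groth.Agent.Surf15.Euler
import Groth.Agent.Surf15.CurveLine

/-! Vanishing of `H¹(O_Z)` for effective divisors on surfaces. -/

set_option autoImplicit false
set_option backward.isDefEq.respectTransparency.types false
set_option linter.style.haveILetI false
universe u

open CategoryTheory CategoryTheory.Limits AlgebraicGeometry TopologicalSpace

noncomputable section

namespace Groth.Agent.Surf15

variable {k : Type u} [Field k] {X : Scheme.{u}} [X.Over (Spec (CommRingCat.of k))]
  [IsProper (X ↘ (Spec (CommRingCat.of k)))]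

include k in
/-- The sequence of `A + B` in cohomology: vanishing on both sides gives vanishing. -/
theorem h1_mul {I J : X.IdealSheafData} (hI : BlowUp.IsEffCartierIdeal I) (hJ : BlowUp.IsEffCartierIdeal J)
    (h₁ : Subsingleton (Coh.HH X (CohB1.tensorMod (ClSub.quotMod I) (ClSub.idealMod J)) 1))
    (h₂ : Subsingleton (Coh.HH X (ClSub.quotMod J) 1)) :
    Subsingleton (Coh.HH X (ClSub.quotMod (I * J)) 1) := by
  obtain ⟨T, hT, ⟨e₁⟩, ⟨e₂⟩, ⟨e₃⟩⟩ := exists_seq_mul hI hJ
  have hsub₁ := (Crv77.hEquiv k e₁ 1).toEquiv.subsingleton_congr.2 h₁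
  have hsub₃ := (Crv77.hEquiv k e₃ 1).toEquiv.subsingleton_congr.2 h₂
  refine (Crv77.hEquiv k e₂ 1).toEquiv.subsingleton_congr.1 ⟨fun a b => ?_⟩
  obtain ⟨c, hc⟩ := (Crv77.exact_f_g k hT 1 (a - b)).1 (Subsingleton.elim _ _)
  rw [show c = 0 from Subsingleton.elim _ _, map_zero] at hc
  exact sub_eq_zero.1 hc.symm

variable [IsIntegral X] [IsAlgClosed k]

/-- If all subdivisors have positive Euler characteristic then `H¹(O_Z) = 0`. -/
theorem h1_trivial_of_euler_pos (hdim : topologicalKrullDim X = 2)
    (hreg : ∀ x : X, IsRegularLocalRing (X.presheaf.stalk x)) {r : ℕ} {C : Fin r → X.IdealSheafData}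
    (hC : ∀ i, IsCurve (C i)) (a : Fin r → ℕ)
    (hpos : ∀ b : Fin r → ℕ, (∀ i, b i ≤ a i) → b ≠ 0 → 1 ≤ Curv2.euler k X (ClSub.quotMod (∏ j, C j ^ b j)))
    (ha : a ≠ 0) : Subsingleton (Coh.HH X (ClSub.quotMod (∏ j, C j ^ a j)) 1) := by
  induction hn : ∑ i, a i using Nat.strong_induction_on generalizing a with
  | _ n ih =>
  subst hn
  have hG : ∀ i, BlowUp.IsEffCartierIdeal (C i) := fun i => (hC i).isEffCartier (k := k) hdim hreg
  have hGi := fun i => isInvertible_idealMod (hG i)
  have hf : ∀ i, a i ≠ 0 → 1 ≤ Curv2.euler k X (ClSub.quotMod (C i)) := fun i hi => by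
    have h := hpos (Pi.single i 1) (fun j => ?_) (fun h => by simpa using congrFun h i)
    · rwa [prod_pow_single (k := k), pow_one] at h
    · by_cases hj : j = i
      · subst hj; rw [Pi.single_eq_same]; omega
      · rw [Pi.single_eq_of_ne hj]; exact Nat.zero_le _
  -- some component meets the rest at most once
  obtain ⟨i, hi, hdeg⟩ : ∃ i, a i ≠ 0 ∧
      (∑ j, (a j : ℤ) * inter k (ClSub.idealMod (C j)) (ClSub.idealMod (C i))) ≤
        1 + inter k (ClSub.idealMod (C i)) (ClSub.idealMod (C i)) := by
    by_contra hcon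
    push Not at hcon
    have h2 := two_euler_prod (k := k) hdim hreg hC a
    have h1 := hpos a (fun _ => le_rfl) ha
    have hle : ∑ j, (a j : ℤ) * (2 * Curv2.euler k X (ClSub.quotMod (C j)) +
        inter k (ClSub.idealMod (C j)) (ClSub.idealMod (C j))) ≤
        ∑ i, ∑ j, (a i : ℤ) * (a j : ℤ) * inter k (ClSub.idealMod (C i)) (ClSub.idealMod (C j)) := by
      refine Finset.sum_le_sum fun i _ => ?_
      simp only [mul_assoc, ← Finset.mul_sum]
      by_cases hi : a i = 0
      · simp [hi]
      · refine mul_le_mul_of_nonneg_left ?_ (Nat.cast_nonneg _)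
        have h3 := hcon i hi
        have h4 := (hC i).euler_le_one (k := k)
        have h5 : ∑ j, (a j : ℤ) * inter k (ClSub.idealMod (C i)) (ClSub.idealMod (C j)) =
            ∑ j, (a j : ℤ) * inter k (ClSub.idealMod (C j)) (ClSub.idealMod (C i)) :=
          Finset.sum_congr rfl fun j _ => by rw [inter_comm hdim (hGi i) (hGi j)]
        rw [h5]
        linarith
    linarith
  obtain ⟨b, rfl⟩ : ∃ b : Fin r → ℕ, a = b + Pi.single i 1 := ⟨a - Pi.single i 1, funext fun j => by
    by_cases hj : j = i
    · subst hj; simp only [Pi.add_apply, Pi.sub_apply, Pi.single_eq_same]; omega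
    · simp only [Pi.add_apply, Pi.sub_apply, Pi.single_eq_of_ne hj]; omega⟩
  rw [prod_pow_add_single (k := k), mul_comm]
  have hW := isEffCartier_prod_pow (k := k) hdim hreg hC b
  refine h1_mul (k := k) (hG i) hW ((hC i).h1_trivial (isInvertible_idealMod hW) (hf i hi) ?_) ?_
  · have h := inter_idealMod_eq (k := k) hdim (hG i) (isInvertible_idealMod hW)
    rw [inter_comm hdim (hGi i) (isInvertible_idealMod hW), inter_prod hdim hreg hC b (hGi i)] at h
    have hsum : ∑ j, (((b + Pi.single i 1 : Fin r → ℕ)) j : ℤ) *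
        inter k (ClSub.idealMod (C j)) (ClSub.idealMod (C i)) =
        ∑ j, (b j : ℤ) * inter k (ClSub.idealMod (C j)) (ClSub.idealMod (C i)) +
          inter k (ClSub.idealMod (C i)) (ClSub.idealMod (C i)) := by
      simp only [Pi.add_apply, Nat.cast_add, add_mul, Finset.sum_add_distrib]
      rw [Finset.sum_eq_single i (f := fun j => ((Pi.single i 1 : Fin r → ℕ) j : ℤ) * _)
        (fun j _ hj => by rw [Pi.single_eq_of_ne hj, Nat.cast_zero, zero_mul]) (by simp),
        Pi.single_eq_same, Nat.cast_one, one_mul]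
    rw [hsum] at hdeg
    simp only [deg]
    linarith
  · by_cases hb : b = 0
    · subst hb
      rw [prod_pow_eq_top (k := k)]
      haveI := Crv77.isNoetherian_of_proper k X
      exact (Crv77.suppIn_quotMod (⊤ : X.IdealSheafData)).subsingleton_HH
        (by rw [Scheme.IdealSheafData.support_top]; exact Set.finite_empty)
        (by rw [Scheme.IdealSheafData.support_top]; exact fun x hx => hx.elim) 0
    · refine ih _ ?_ b (fun c hc hc0 => hpos c (fun j => (hc j).trans ?_) hc0) hb rfl
      · simp only [Pi.add_apply, Finset.sum_add_distrib]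
        rw [Finset.sum_pi_single' i 1, if_pos (Finset.mem_univ i)]
        omega
      · simp only [Pi.add_apply]; omega

end Groth.Agent.Surf15
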