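import Groth.Agent.Surf15.Quot
import Groth.Agent.Surf15.Chain

/-! Fundamental cycles and rationality. -/

set_option autoImplicit false
set_option backward.isDefEq.respectTransparency.types false
set_option linter.style.haveILetI false
universe u

open CategoryTheory CategoryTheory.Limits AlgebraicGeometry TopologicalSpace

noncomputable section

namespace Groth.Agent.Surf15

variable {k : Type u} [Field k] {X : Scheme.{u}} [X.Over (Spec (CommRingCat.of k))]
  [IsProper (X ↘ (Spec (CommRingCat.of k)))]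

omit [X.Over (Spec (CommRingCat.of k))] [IsProper (X ↘ (Spec (CommRingCat.of k)))] in
/-- The sequence of `A + B`, twisted. -/
theorem exists_seq_mul_twist {I J : X.IdealSheafData} (hI : BlowUp.IsEffCartierIdeal I)
    (hJ : BlowUp.IsEffCartierIdeal J) {L : X.Modules} (hL : PicF.IsInvertible L) :
    ∃ T : ShortComplex X.Modules, T.ShortExact ∧
      Nonempty (T.X₁ ≅ CohB1.tensorMod (ClSub.quotMod I) (CohB1.tensorMod (ClSub.idealMod J) L)) ∧
      Nonempty (T.X₂ ≅ CohB1.tensorMod (ClSub.quotMod (I * J)) L) ∧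
      Nonempty (T.X₃ ≅ CohB1.tensorMod (ClSub.quotMod J) L) := by
  obtain ⟨T, hT, ⟨e₁⟩, ⟨e₂⟩, ⟨e₃⟩⟩ := exists_seq_mul hI hJ
  obtain ⟨T', hT', h₁, h₂, h₃⟩ := Crv77.shortExact_twist (Mero90.isFinLocFreeOfRank_of_isInvertible hL) hT
  exact ⟨T', hT', ⟨eqToIso h₁ ≪≫ EGA73.tensIso e₁ (Iso.refl L) ≪≫ EGA73.tensAssoc' _ _ _⟩,
    ⟨eqToIso h₂ ≪≫ EGA73.tensIso e₂ (Iso.refl L)⟩, ⟨eqToIso h₃ ≪≫ EGA73.tensIso e₃ (Iso.refl L)⟩⟩

variable [IsIntegral X] (hdim : topologicalKrullDim X = 2)
  (hreg : ∀ x : X, IsRegularLocalRing (X.presheaf.stalk x))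
include hdim hreg

theorem deg_eq_neg_inter {C : X.IdealSheafData} (hC : IsCurve C) {L : X.Modules} (hL : PicF.IsInvertible L) :
    deg k C L = - inter k (ClSub.idealMod C) L := by
  rw [inter_idealMod_eq hdim (hC.isEffCartier (k := k) hdim hreg) hL]
  ring

theorem deg_tensor {C : X.IdealSheafData} (hC : IsCurve C) {A B : X.Modules} (hA : PicF.IsInvertible A)
    (hB : PicF.IsInvertible B) : deg k C (CohB1.tensorMod A B) = deg k C A + deg k C B := by
  rw [deg_eq_neg_inter hdim hreg hC (EGA73.isInvertible_tensorMod hA hB), deg_eq_neg_inter hdim hreg hC hA,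
    deg_eq_neg_inter hdim hreg hC hB,
    inter_add_right hdim hA hB (isInvertible_idealMod (hC.isEffCartier (k := k) hdim hreg))]
  ring

variable {r : ℕ} {C : Fin r → X.IdealSheafData} (hC : ∀ i, IsCurve (C i))
include hC

theorem deg_prod (b : Fin r → ℕ) (i : Fin r) :
    deg k (C i) (ClSub.idealMod (∏ j, C j ^ b j)) =
      - dotVec (fun p q => inter k (ClSub.idealMod (C p)) (ClSub.idealMod (C q))) b i := by
  have hi := isInvertible_idealMod ((hC i).isEffCartier (k := k) hdim hreg)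
  have hb := isInvertible_idealMod (isEffCartier_prod_pow (k := k) hdim hreg hC b)
  rw [deg_eq_neg_inter hdim hreg (hC i) hb, inter_comm hdim hi hb, inter_prod hdim hreg hC b hi]
  rfl

/-- One step of a computation sequence for Euler characteristics. -/
theorem euler_step (b : Fin r → ℕ) (i : Fin r) :
    Curv2.euler k X (ClSub.quotMod (∏ j, C j ^ (b + Pi.single i 1 : Fin r → ℕ) j)) =
      Curv2.euler k X (ClSub.quotMod (∏ j, C j ^ b j)) + Curv2.euler k X (ClSub.quotMod (C i)) -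
        dotVec (fun p q => inter k (ClSub.idealMod (C p)) (ClSub.idealMod (C q))) b i := by
  have hi := (hC i).isEffCartier (k := k) hdim hreg
  rw [prod_pow_add_single (k := k),
    euler_quot_mul hdim (isEffCartier_prod_pow (k := k) hdim hreg hC b) hi,
    inter_prod hdim hreg hC b (isInvertible_idealMod hi)]
  rfl

variable [IsAlgClosed k] (z : Fin r → ℕ)
  (hstep : ∀ b : Fin r → ℕ, b ≠ 0 → (∀ i, b i ≤ z i) → b ≠ z →
    ∃ i, b i < z i ∧ 0 < dotVec (fun p q => inter k (ClSub.idealMod (C p)) (ClSub.idealMod (C q))) b i)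
  (i₀ : Fin r) (hz : 1 ≤ z i₀)
include hstep hz

/-- `χ(O_Z) ≤ 1` at the end of a computation sequence. -/
theorem euler_chain_le : Curv2.euler k X (ClSub.quotMod (∏ j, C j ^ z j)) ≤ 1 := by
  refine chain_induction _ z hstep (P := fun b => Curv2.euler k X (ClSub.quotMod (∏ j, C j ^ b j)) ≤ 1)
    i₀ hz ?_ fun b i _ _ _ hpos hP => ?_
  · rw [prod_pow_single (k := k), pow_one]
    exact (hC i₀).euler_le_one
  · show _ ≤ _
    rw [euler_step hdim hreg hC b i]
    have := (hC i).euler_le_one (k := k)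
    try dsimp only at hP
    linarith

/-- At most one section at the end of a computation sequence, for nonpositive degrees. -/
theorem h0_chain_le {L : X.Modules} (hL : PicF.IsInvertible L) (hd : ∀ i, 1 ≤ z i → deg k (C i) L ≤ 0) :
    Module.finrank k (Coh.HH X (CohB1.tensorMod (ClSub.quotMod (∏ j, C j ^ z j)) L) 0) ≤ 1 := by
  haveI := Crv77.isNoetherian_of_proper k X
  refine chain_induction _ z hstep
    (P := fun b => Module.finrank k (Coh.HH X (CohB1.tensorMod (ClSub.quotMod (∏ j, C j ^ b j)) L) 0) ≤ 1)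
    i₀ hz ?_ fun b i _ _ hi hpos hP => ?_
  · rw [prod_pow_single (k := k), pow_one]
    exact ((hC i₀).h0_le_one hL (hd i₀ hz)).1
  · show _ ≤ _
    have hCi := (hC i).isEffCartier (k := k) hdim hreg
    have hW := isEffCartier_prod_pow (k := k) hdim hreg hC b
    rw [prod_pow_add_single (k := k), mul_comm]
    obtain ⟨T, hT, ⟨e₁⟩, ⟨e₂⟩, ⟨e₃⟩⟩ := exists_seq_mul_twist hCi hW hL
    have hWL := EGA73.isInvertible_tensorMod (isInvertible_idealMod hW) hL
    have hneg : deg k (C i) (CohB1.tensorMod (ClSub.idealMod (∏ j, C j ^ b j)) L) < 0 := by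
      rw [deg_tensor hdim hreg (hC i) (isInvertible_idealMod hW) hL, deg_prod hdim hreg hC b i]
      have := hd i (by omega)
      linarith
    have hsub := (Crv77.hEquiv k e₁ 0).toEquiv.subsingleton_congr.2 ((hC i).h0_trivial hWL hneg)
    have hinj : Function.Injective (Crv77.hmap k T.g 0) := by
      refine (injective_iff_map_eq_zero _).2 fun a ha => ?_
      obtain ⟨c, hc⟩ := (Crv77.exact_f_g k hT 0 a).1 ha
      rw [← hc, show c = 0 from Subsingleton.elim _ _, map_zero]
    haveI : Module.Finite k (Coh.HH X T.X₃ 0) := Serre71.finite_hh_of_isProper k _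
      (Crv77.isCoh_of_iso e₃.symm (Amp73.isCoh_tensorMod (Crv77.isCoh_quotMod _)
        (Amp73.isCoh_of_isInvertible hL))) 0
    try dsimp only at hP
    rw [← (Crv77.hEquiv k e₂ 0).finrank_eq]
    refine (LinearMap.finrank_le_finrank_of_injective hinj).trans ?_
    rw [(Crv77.hEquiv k e₃ 0).finrank_eq]
    exact hP

/-- Twists of nonnegative degree have no `H¹` at the end of a computation sequence of genus zero. -/
theorem h1_chain {L : X.Modules} (hL : PicF.IsInvertible L) (hd : ∀ i, 1 ≤ z i → 0 ≤ deg k (C i) L)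
    (hg : 1 ≤ Curv2.euler k X (ClSub.quotMod (∏ j, C j ^ z j))) :
    Subsingleton (Coh.HH X (CohB1.tensorMod (ClSub.quotMod (∏ j, C j ^ z j)) L) 1) := by
  haveI := Crv77.isNoetherian_of_proper k X
  refine (chain_induction _ z hstep
    (P := fun b => Curv2.euler k X (ClSub.quotMod (∏ j, C j ^ b j)) ≤ 1 ∧
      (1 ≤ Curv2.euler k X (ClSub.quotMod (∏ j, C j ^ b j)) →
        Subsingleton (Coh.HH X (CohB1.tensorMod (ClSub.quotMod (∏ j, C j ^ b j)) L) 1)))
    i₀ hz ?_ fun b i _ _ hi hpos hP => ?_).2 hg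
  · rw [prod_pow_single (k := k), pow_one]
    exact ⟨(hC i₀).euler_le_one, fun h => (hC i₀).h1_trivial hL h (by linarith [hd i₀ hz])⟩
  · obtain ⟨hle, hP⟩ := hP
    rw [euler_step hdim hreg hC b i]
    have hci := (hC i).euler_le_one (k := k)
    refine ⟨by linarith, fun h => ?_⟩
    have hCi := (hC i).isEffCartier (k := k) hdim hreg
    have hW := isEffCartier_prod_pow (k := k) hdim hreg hC b
    rw [prod_pow_add_single (k := k), mul_comm]
    obtain ⟨T, hT, ⟨e₁⟩, ⟨e₂⟩, ⟨e₃⟩⟩ := exists_seq_mul_twist hCi hW hL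
    have hWL := EGA73.isInvertible_tensorMod (isInvertible_idealMod hW) hL
    have hdi : -1 ≤ deg k (C i) (CohB1.tensorMod (ClSub.idealMod (∏ j, C j ^ b j)) L) := by
      rw [deg_tensor hdim hreg (hC i) (isInvertible_idealMod hW) hL, deg_prod hdim hreg hC b i]
      have := hd i (by omega)
      linarith
    have hs₁ := (Crv77.hEquiv k e₁ 1).toEquiv.subsingleton_congr.2
      ((hC i).h1_trivial hWL (by linarith) hdi)
    have hs₃ := (Crv77.hEquiv k e₃ 1).toEquiv.subsingleton_congr.2 (hP (by linarith))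
    refine (Crv77.hEquiv k e₂ 1).toEquiv.subsingleton_congr.1 ⟨fun p q => ?_⟩
    obtain ⟨c, hc⟩ := (Crv77.exact_f_g k hT 1 (p - q)).1 (Subsingleton.elim _ _)
    rw [show c = 0 from Subsingleton.elim _ _, map_zero] at hc
    exact sub_eq_zero.1 hc.symm

include k in
omit hstep hz in
/-- `H¹` of a subdivisor is a quotient. -/
theorem h1_of_le (b c : Fin r → ℕ) (hb : ∀ i, b i ≤ c i) (hb0 : ∏ j, C j ^ (c - b : Fin r → ℕ) j ≠ ⊤)
    (h : Subsingleton (Coh.HH X (ClSub.quotMod (∏ j, C j ^ c j)) 1)) :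
    Subsingleton (Coh.HH X (ClSub.quotMod (∏ j, C j ^ b j)) 1) := by
  haveI := Crv77.isNoetherian_of_proper k X
  have hI := isEffCartier_prod_pow (k := k) hdim hreg hC (c - b)
  have hJ := isEffCartier_prod_pow (k := k) hdim hreg hC b
  obtain ⟨T, hT, ⟨e₁⟩, ⟨e₂⟩, ⟨e₃⟩⟩ := exists_seq_mul hI hJ
  have he : (∏ j, C j ^ (c - b : Fin r → ℕ) j) * ∏ j, C j ^ b j = ∏ j, C j ^ c j := by
    rw [← Finset.prod_mul_distrib]
    exact Finset.prod_congr rfl fun j _ => by rw [← pow_add, Pi.sub_apply, Nat.sub_add_cancel (hb j)]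
  rw [← he] at h
  have hs₂ := (Crv77.hEquiv k e₂ 1).toEquiv.subsingleton_congr.2 h
  have hs₁ : Subsingleton (Coh.HH X T.X₁ 2) := by
    letI := subOver (k := k) (∏ j, C j ^ (c - b : Fin r → ℕ) j)
    haveI : IsProper ((∏ j, C j ^ (c - b : Fin r → ℕ) j).subscheme ↘ (Spec (CommRingCat.of k))) :=
      inferInstanceAs (IsProper ((∏ j, C j ^ (c - b : Fin r → ℕ) j).subschemeι ≫ (X ↘ (Spec (CommRingCat.of k)))))
    have hd : topologicalKrullDim (∏ j, C j ^ (c - b : Fin r → ℕ) j).subscheme ≤ 1 := by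
      rw [IsHomeomorph.topologicalKrullDim_eq _
        (∏ j, C j ^ (c - b : Fin r → ℕ) j).subschemeι.isClosedEmbedding.isEmbedding.toHomeomorph.isHomeomorph,
        Scheme.IdealSheafData.range_subschemeι, dim_support_effCartier (k := k) hdim hI hb0]
    have hcc := Crv77.curveCoh_of_finite k _ hd fun M hM n => Serre71.finite_hh_of_isProper k M hM n
    haveI : IsLocallyNoetherian (∏ j, C j ^ (c - b : Fin r → ℕ) j).subscheme :=
      LocallyOfFiniteType.isLocallyNoetherian (∏ j, C j ^ (c - b : Fin r → ℕ) j).subschemeι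
    obtain ⟨e⟩ := nonempty_hh (k := k) (∏ j, C j ^ (c - b : Fin r → ℕ) j) (isInvertible_idealMod hJ) 2
    exact ((Crv77.hEquiv k e₁ 2).trans e).toEquiv.subsingleton_congr.2
      (hcc.vanish _ (Crv77.isCoh_of_isInvertible (Amp73.isInvertible_pullback _ (isInvertible_idealMod hJ))) 2 le_rfl)
  refine (Crv77.hEquiv k e₃ 1).toEquiv.subsingleton_congr.1 ⟨fun p q => ?_⟩
  obtain ⟨c', hc'⟩ := (Crv77.exact_g_δ k hT 1 (p - q)).1 (Subsingleton.elim (h := hs₁) _ _)
  rw [show c' = 0 from Subsingleton.elim _ _, map_zero] at hc'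
  exact sub_eq_zero.1 hc'.symm

end Groth.Agent.Surf15
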